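import Groth.Prelude.Def_Disc
import Mathlib.RingTheory.Kaehler.Basic
import Mathlib.RingTheory.IsTensorProduct
import Mathlib.RingTheory.RingHom.Flat
import Mathlib.RingTheory.Flat.Basic
import Mathlib.RingTheory.Flat.Stability
import Mathlib.Algebra.Category.Ring.Epi
import Mathlib.AlgebraicGeometry.Morphisms.Flat
import Mathlib.AlgebraicGeometry.OpenImmersion

/-!
The Noether different under flat base change and open immersions.
-/

universe u v

open TensorProduct AlgebraicGeometry CategoryTheory

namespace Groth.Agent.DiscNoether25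

/-- Annihilators of finitely generated ideals commute with flat ring maps. -/
theorem annihilator_map_of_flat {R R' : Type u} [CommRing R] [CommRing R'] (ψ : R →+* R')
    (hψ : ψ.Flat) (I : Ideal R) (hI : I.FG) :
    Submodule.annihilator (I.map ψ) = (Submodule.annihilator I).map ψ := by
  classical
  algebraize [ψ]
  haveI : Module.Flat R R' := hψ
  obtain ⟨G, rfl⟩ := hI
  refine le_antisymm ?_ ?_
  · intro r hr
    set g : R →ₗ[R] ({x // x ∈ G} → R) := LinearMap.pi fun x => LinearMap.mulRight R (x : R) with hg
    set K := LinearMap.ker g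
    have hex : Function.Exact (K.subtype.lTensor R') (g.lTensor R') :=
      Module.Flat.lTensor_exact (M := R') (f := K.subtype) (g := g) (LinearMap.exact_subtype_ker_map g)
    have hK : ∀ k ∈ K, k ∈ Submodule.annihilator (Submodule.span R (G : Set R)) := by
      intro k hk
      rw [Submodule.mem_annihilator_span]
      rintro ⟨x, hx⟩
      exact congrFun (LinearMap.mem_ker.1 hk) ⟨x, hx⟩
    have h0 : g.lTensor R' (r ⊗ₜ[R] (1 : R)) = 0 := by
      apply (TensorProduct.piScalarRight R R' R' {x // x ∈ G}).injective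
      rw [map_zero]
      ext x
      have := Submodule.mem_annihilator.1 hr (ψ (x : R))
        (Ideal.mem_map_of_mem _ (Submodule.subset_span x.2))
      simp [hg, Algebra.smul_def, RingHom.algebraMap_toAlgebra]
      rw [mul_comm]
      exact this
    obtain ⟨z, hz⟩ := (hex _).1 h0
    have key : ∀ z : R' ⊗[R] K,
        (TensorProduct.rid R R') (K.subtype.lTensor R' z) ∈
          (Submodule.annihilator (Submodule.span R (G : Set R))).map ψ := by
      intro z
      induction z using TensorProduct.induction_on with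
      | zero => simp
      | tmul a k =>
        rw [LinearMap.lTensor_tmul, TensorProduct.rid_tmul, Algebra.smul_def]
        exact Ideal.mul_mem_right _ _ (Ideal.mem_map_of_mem _ (hK _ k.2))
      | add x y hx hy => rw [map_add, map_add]; exact add_mem hx hy
    have := key z
    rwa [hz, TensorProduct.rid_tmul, one_smul] at this
  · rw [Ideal.map_le_iff_le_comap]
    intro k hk
    rw [Ideal.mem_comap, Submodule.mem_annihilator]
    intro y hy
    refine Submodule.span_induction (p := fun y _ => ψ k • y = 0) ?_ (smul_zero _)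
      (fun x y _ _ hx hy => by rw [smul_add, hx, hy, add_zero])
      (fun c x _ hx => by rw [smul_comm, hx, smul_zero]) hy
    rintro _ ⟨x, hx, rfl⟩
    rw [smul_eq_mul, ← map_mul, ← smul_eq_mul, Submodule.mem_annihilator.1 hk x hx, map_zero]

theorem map_noetherDifferent {A B A' B' : Type u} [CommRing A] [CommRing B] [Algebra A B]
    [CommRing A'] [CommRing B'] [Algebra A' B'] [Algebra.EssFiniteType A B]
    (j : B →+* B') (ψ : B ⊗[A] B →+* B' ⊗[A'] B')
    (hψ : ψ.Flat) (hl : ∀ s t : B, ψ (s ⊗ₜ[A] t) = j s ⊗ₜ[A'] j t)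
    (hker : RingHom.ker (Algebra.TensorProduct.lmul' (S := B') A') ≤
      (RingHom.ker (Algebra.TensorProduct.lmul' (S := B) A)).map ψ) :
    Disc.noetherDifferent A' B' = (Disc.noetherDifferent A B).map j := by
  have hcomp : (Algebra.TensorProduct.lmul' (S := B') A').toRingHom.comp ψ =
      j.comp (Algebra.TensorProduct.lmul' (S := B) A).toRingHom := by
    refine RingHom.ext fun x => ?_
    induction x using TensorProduct.induction_on with
    | zero => simp
    | tmul s t => simp [hl]
    | add x y hx hy => rw [map_add, map_add, hx, hy]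
  have hker' : RingHom.ker (Algebra.TensorProduct.lmul' (S := B') A') =
      (RingHom.ker (Algebra.TensorProduct.lmul' (S := B) A)).map ψ := by
    refine le_antisymm hker (Ideal.map_le_iff_le_comap.2 fun x hx => ?_)
    have := RingHom.congr_fun hcomp x
    change Algebra.TensorProduct.lmul' A' (ψ x) = 0
    exact this.trans (by simp [RingHom.mem_ker.1 hx])
  rw [Disc.noetherDifferent, Disc.noetherDifferent, hker',
    annihilator_map_of_flat ψ hψ _ (KaehlerDifferential.ideal_fg A B)]
  change Ideal.map (Algebra.TensorProduct.lmul' (S := B') A').toRingHom _ =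
    Ideal.map j (Ideal.map (Algebra.TensorProduct.lmul' (S := B) A).toRingHom _)
  rw [Ideal.map_map, Ideal.map_map, hcomp]

theorem epi_of_isOpenImmersion {R S : Type u} [CommRing R] [CommRing S] [Algebra R S]
    (h : IsOpenImmersion (Spec.map (CommRingCat.ofHom (algebraMap R S)))) :
    Algebra.IsEpi R S := by
  rw [← CommRingCat.epi_iff_epi]
  constructor
  intro T f g e
  apply Spec.map_injective
  rw [← cancel_mono (Spec.map (CommRingCat.ofHom (algebraMap R S))), ← Spec.map_comp,
    ← Spec.map_comp, e]

theorem flat_of_isOpenImmersion {R S : Type u} [CommRing R] [CommRing S] [Algebra R S]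
    (h : IsOpenImmersion (Spec.map (CommRingCat.ofHom (algebraMap R S)))) :
    (algebraMap R S).Flat := by
  have : Flat (Spec.map (CommRingCat.ofHom (algebraMap R S))) := inferInstance
  exact (HasRingHomProperty.Spec_iff (P := @Flat)).1 this

theorem noetherDifferent_openImmersion {A B' B : Type u} [CommRing A] [CommRing B']
    [CommRing B] [Algebra A B'] [Algebra A B] [Algebra B' B] [IsScalarTower A B' B]
    [Algebra.EssFiniteType A B']
    (h : IsOpenImmersion (Spec.map (CommRingCat.ofHom (algebraMap B' B)))) :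
    Disc.noetherDifferent A B = (Disc.noetherDifferent A B').map (algebraMap B' B) := by
  haveI := epi_of_isOpenImmersion h
  set f := IsScalarTower.toAlgHom A B' B
  have hf : f.toRingHom.Flat := flat_of_isOpenImmersion h
  refine map_noetherDifferent (algebraMap B' B) (Algebra.TensorProduct.map f f).toRingHom
    (RingHom.Flat.tensorProductMap hf hf) (fun s t => by simp [f]) ?_
  set J := (RingHom.ker (Algebra.TensorProduct.lmul' (S := B') A)).map
    (Algebra.TensorProduct.map f f).toRingHom
  rw [show RingHom.ker (Algebra.TensorProduct.lmul' (S := B) A) =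
      KaehlerDifferential.ideal A B from rfl, ← KaehlerDifferential.span_range_eq_ideal,
    Ideal.span_le]
  rintro _ ⟨s, rfl⟩
  set q := Ideal.Quotient.mk J
  let i₁ : B →ₐ[B'] (B ⊗[A] B) ⧸ J :=
    ⟨q.comp Algebra.TensorProduct.includeLeftRingHom, fun _ => rfl⟩
  let i₂ : B →ₐ[B'] (B ⊗[A] B) ⧸ J :=
    ⟨q.comp (Algebra.TensorProduct.includeRight (R := A) (A := B) (B := B)).toRingHom, fun b => by
      change q ((1 : B) ⊗ₜ[A] algebraMap B' B b) = q (algebraMap B' B b ⊗ₜ[A] (1 : B))
      rw [Ideal.Quotient.eq]
      have := Ideal.mem_map_of_mem (Algebra.TensorProduct.map f f).toRingHom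
        (KaehlerDifferential.one_smul_sub_smul_one_mem_ideal A b)
      simpa [f, J] using this⟩
  have := congrArg (Algebra.TensorProduct.lift i₁ i₂ fun _ _ => .all _ _)
    ((Algebra.isEpi_iff_forall_one_tmul_eq B' B).1 inferInstance s)
  rw [Algebra.TensorProduct.lift_tmul, Algebra.TensorProduct.lift_tmul, map_one, map_one,
    one_mul, mul_one] at this
  exact Ideal.Quotient.eq.1 this

theorem noetherDifferent_flat_baseChange {A B A' B' : Type u} [CommRing A] [CommRing B]
    [CommRing A'] [CommRing B'] [Algebra A B] [Algebra A A'] [Algebra A B'] [Algebra B B']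
    [Algebra A' B'] [IsScalarTower A B B'] [IsScalarTower A A' B']
    [Algebra.IsPushout A B A' B'] [Algebra.EssFiniteType A B] [Module.Flat A A'] :
    Disc.noetherDifferent A' B' = (Disc.noetherDifferent A B).map (algebraMap B B') := by
  haveI : Module.Flat B B' := Module.Flat.isBaseChange A B A' B'
    (Algebra.IsPushout.out (R := A) (S := B) (R' := A') (S' := B'))
  let e := Algebra.IsPushout.cancelBaseChangeAlg A B A' B' B'
  let g : B ⊗[A] B →+* B ⊗[A] B' :=
    (Algebra.TensorProduct.map (AlgHom.id A B) (IsScalarTower.toAlgHom A B B')).toRingHom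
  have hg : g.Flat := RingHom.Flat.tensorProductMap (RingHom.Flat.id B)
    (RingHom.flat_algebraMap_iff.2 ‹Module.Flat B B'›)
  refine map_noetherDifferent (algebraMap B B') (e.symm.toRingEquiv.toRingHom.comp g)
    (hg.comp (RingHom.Flat.of_bijective e.symm.toRingEquiv.bijective)) (fun s t => ?_) ?_
  · simp [g, e]
  set J := (RingHom.ker (Algebra.TensorProduct.lmul' (S := B) A)).map
    (e.symm.toRingEquiv.toRingHom.comp g)
  rw [show RingHom.ker (Algebra.TensorProduct.lmul' (S := B') A') =
      KaehlerDifferential.ideal A' B' from rfl, ← KaehlerDifferential.span_range_eq_ideal,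
    Ideal.span_le]
  rintro _ ⟨s, rfl⟩
  refine IsTensorProduct.inductionOn
    (motive := fun s => (1 : B') ⊗ₜ[A'] s - s ⊗ₜ[A'] (1 : B') ∈ J)
    (Algebra.IsPushout.out (R := A) (S := B) (R' := A') (S' := B')) s ?_ ?_ ?_
  · simp
  · intro b a'
    have h1 : (1 : B') ⊗ₜ[A'] (algebraMap B B' b) - algebraMap B B' b ⊗ₜ[A'] (1 : B') ∈ J := by
      have := Ideal.mem_map_of_mem (e.symm.toRingEquiv.toRingHom.comp g)
        (KaehlerDifferential.one_smul_sub_smul_one_mem_ideal A b)
      simpa [g, e, J] using this
    have h2 : (1 : B') ⊗ₜ[A'] algebraMap A' B' a' = algebraMap A' B' a' ⊗ₜ[A'] (1 : B') :=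
      (Algebra.TensorProduct.tmul_one_eq_one_tmul a').symm
    change (1 : B') ⊗ₜ[A'] (b • algebraMap A' B' a') - (b • algebraMap A' B' a') ⊗ₜ[A'] (1 : B') ∈ J
    rw [Algebra.smul_def]
    have e1 : ∀ x y : B', (1 : B') ⊗ₜ[A'] (x * y) = ((1 : B') ⊗ₜ[A'] x) * ((1 : B') ⊗ₜ[A'] y) :=
      fun x y => by rw [Algebra.TensorProduct.tmul_mul_tmul, one_mul]
    have e2 : ∀ x y : B', (x * y) ⊗ₜ[A'] (1 : B') = (x ⊗ₜ[A'] (1 : B')) * (y ⊗ₜ[A'] (1 : B')) :=
      fun x y => by rw [Algebra.TensorProduct.tmul_mul_tmul, one_mul]
    rw [e1, e2, h2, ← sub_mul]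
    exact J.mul_mem_right _ h1
  · intro x y hx hy
    rw [TensorProduct.tmul_add, TensorProduct.add_tmul, add_sub_add_comm]
    exact add_mem hx hy

end Groth.Agent.DiscNoether25
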