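import Groth.Prelude.Def_Disc
import Mathlib.RingTheory.Kaehler.Basic
import Mathlib.LinearAlgebra.Trace
import Mathlib.RingTheory.Trace.Basic

/-!
Finite free algebras: the annihilator of the diagonal ideal is `Hom_B(ω, B)`, and the Noether
different is the set of values at the trace.
-/

universe u v

open TensorProduct

namespace Groth.Agent.DiscNoether25

variable {A : Type u} {B : Type v} [CommRing A] [CommRing B] [Algebra A B]

theorem smul_toLinearMap (a : A) (φ : Disc.Omega A B) :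
    ((algebraMap A B a) • φ).toLinearMap = a • φ.toLinearMap := by
  ext x
  simp [← Algebra.smul_def, LinearMap.map_smul]

/-- The pairing `b ⊗ c ↦ l(b) • c`. -/
noncomputable def pair (ξ : B ⊗[A] B) (l : Disc.Omega A B) : B :=
  TensorProduct.lift ((LinearMap.lsmul A B).comp l.toLinearMap) ξ

@[simp] theorem pair_tmul (b c : B) (l : Disc.Omega A B) :
    pair (b ⊗ₜ[A] c) l = l.toLinearMap b • c := rfl

theorem pair_add (ξ ξ' : B ⊗[A] B) (l : Disc.Omega A B) :
    pair (ξ + ξ') l = pair ξ l + pair ξ' l := map_add _ ξ ξ'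

theorem pair_zero (l : Disc.Omega A B) : pair (0 : B ⊗[A] B) l = 0 := map_zero _

theorem pair_sub (ξ ξ' : B ⊗[A] B) (l : Disc.Omega A B) :
    pair (ξ - ξ') l = pair ξ l - pair ξ' l := map_sub _ ξ ξ'

theorem pair_sum {κ : Type*} (s : Finset κ) (ξ : κ → B ⊗[A] B) (l : Disc.Omega A B) :
    pair (∑ i ∈ s, ξ i) l = ∑ i ∈ s, pair (ξ i) l := map_sum _ ξ s

theorem pair_left_mul (b : B) (ξ : B ⊗[A] B) (l : Disc.Omega A B) :
    pair (((b ⊗ₜ[A] (1 : B)) : B ⊗[A] B) * ξ) l = pair ξ (b • l) := by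
  induction ξ using TensorProduct.induction_on with
  | zero => simp [pair_zero]
  | tmul x y => simp [Algebra.TensorProduct.tmul_mul_tmul]
  | add x y hx hy => rw [mul_add, pair_add, pair_add, hx, hy]

theorem pair_right_mul (c : B) (ξ : B ⊗[A] B) (l : Disc.Omega A B) :
    pair ((((1 : B) ⊗ₜ[A] c) : B ⊗[A] B) * ξ) l = c * pair ξ l := by
  induction ξ using TensorProduct.induction_on with
  | zero => simp [pair_zero]
  | tmul x y => simp [Algebra.TensorProduct.tmul_mul_tmul]
  | add x y hx hy => rw [mul_add, pair_add, pair_add, hx, hy, mul_add]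

variable {ι : Type*} [Fintype ι] (e : Module.Basis ι A B)

/-- The dual basis inside `ω`. -/
noncomputable def dual (i : ι) : Disc.Omega A B := ⟨e.coord i⟩

theorem sum_smul_dual (φ : Disc.Omega A B) :
    ∑ i, (algebraMap A B (φ.toLinearMap (e i))) • dual e i = φ := by
  apply Disc.Omega.toLinearMap_injective
  have h : ∀ (s : Finset ι) (f : ι → Disc.Omega A B),
      (∑ i ∈ s, f i).toLinearMap = ∑ i ∈ s, (f i).toLinearMap := fun s f =>
    map_sum (AddMonoidHom.mk' (fun ψ : Disc.Omega A B => ψ.toLinearMap) (fun _ _ => rfl)) f s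
  rw [h]
  simp only [smul_toLinearMap, dual]
  exact e.sum_dual_apply_smul_coord φ.toLinearMap

theorem sum_smul_dual_eq_trace [Module.Free A B] [Module.Finite A B] :
    ∑ i, e i • dual e i = Disc.Omega.trace A B := by
  classical
  apply Disc.Omega.toLinearMap_injective
  have h : ∀ (s : Finset ι) (f : ι → Disc.Omega A B),
      (∑ i ∈ s, f i).toLinearMap = ∑ i ∈ s, (f i).toLinearMap := fun s f =>
    map_sum (AddMonoidHom.mk' (fun ψ : Disc.Omega A B => ψ.toLinearMap) (fun _ _ => rfl)) f s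
  rw [h]
  ext x
  simp only [LinearMap.coe_sum, Finset.sum_apply, Disc.Omega.smul_toLinearMap_apply, dual,
    Disc.Omega.trace]
  rw [Algebra.trace_eq_matrix_trace e x, Matrix.trace]
  refine Finset.sum_congr rfl fun i _ => ?_
  rw [Matrix.diag_apply, Algebra.leftMulMatrix_eq_repr_mul, mul_comm x (e i)]
  rfl

/-- An element of `B ⊗ B` is recovered from its pairing with the dual basis. -/
theorem eq_sum_tmul_pair (ξ : B ⊗[A] B) : ξ = ∑ i, e i ⊗ₜ[A] pair ξ (dual e i) := by
  induction ξ using TensorProduct.induction_on with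
  | zero => simp [pair_zero]
  | tmul x y =>
    conv_lhs => rw [← e.sum_repr x, TensorProduct.sum_tmul]
    refine Finset.sum_congr rfl fun i _ => ?_
    rw [pair_tmul, TensorProduct.smul_tmul]
    rfl
  | add x y hx hy =>
    simp only [pair_add, TensorProduct.tmul_add, Finset.sum_add_distrib]
    rw [← hx, ← hy]

theorem pair_ext {ξ ξ' : B ⊗[A] B} (h : ∀ l, pair ξ l = pair ξ' l)
    [Module.Free A B] [Module.Finite A B] : ξ = ξ' := by
  rw [eq_sum_tmul_pair (Module.Free.chooseBasis A B) ξ,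
    eq_sum_tmul_pair (Module.Free.chooseBasis A B) ξ']
  simp_rw [h]

theorem mul'_eq_sum (ξ : B ⊗[A] B) :
    Algebra.TensorProduct.lmul' A ξ = ∑ i, e i * pair ξ (dual e i) := by
  conv_lhs => rw [eq_sum_tmul_pair e ξ]
  simp [map_sum]

/-- Membership in the annihilator of the diagonal ideal. -/
theorem mem_annihilator_iff (ξ : B ⊗[A] B) :
    ξ ∈ Submodule.annihilator (RingHom.ker (Algebra.TensorProduct.lmul' (S := B) A)) ↔
      ∀ b : B, (((1 : B) ⊗ₜ[A] b) : B ⊗[A] B) * ξ = (b ⊗ₜ[A] (1 : B)) * ξ := by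
  have hspan : RingHom.ker (Algebra.TensorProduct.lmul' (S := B) A) =
      Ideal.span (Set.range fun s : B => (1 : B) ⊗ₜ[A] s - s ⊗ₜ[A] (1 : B)) :=
    (KaehlerDifferential.span_range_eq_ideal A B).symm
  rw [hspan, Submodule.mem_annihilator]
  constructor
  · intro h b
    have := h _ (Ideal.subset_span (Set.mem_range_self b))
    rw [smul_eq_mul, mul_comm, sub_mul, sub_eq_zero] at this
    exact this
  · intro h x hx
    refine Submodule.span_induction (p := fun x _ => ξ • x = 0) ?_ (smul_zero _)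
      (fun x y _ _ hx hy => by rw [smul_add, hx, hy, add_zero])
      (fun r x _ hx => by rw [smul_comm, hx, smul_zero]) hx
    rintro _ ⟨b, rfl⟩
    rw [smul_eq_mul, mul_comm, sub_mul, sub_eq_zero]
    exact h b

theorem pair_map_add (ξ : B ⊗[A] B) (l m : Disc.Omega A B) :
    pair ξ (l + m) = pair ξ l + pair ξ m := by
  induction ξ using TensorProduct.induction_on with
  | zero => simp [pair_zero]
  | tmul x y => simp [add_smul]
  | add x y hx hy => rw [pair_add, pair_add, pair_add, hx, hy]; abel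

/-- The pairing as a `B`-linear map, for `ξ` annihilating the diagonal ideal. -/
noncomputable def toHom (ξ : B ⊗[A] B)
    (h : ξ ∈ Submodule.annihilator (RingHom.ker (Algebra.TensorProduct.lmul' (S := B) A))) :
    Disc.Omega A B →ₗ[B] B where
  toFun l := pair ξ l
  map_add' := pair_map_add ξ
  map_smul' b l := by
    rw [← pair_left_mul, ← (mem_annihilator_iff ξ).1 h b, pair_right_mul]
    rfl

@[simp] theorem toHom_apply (ξ : B ⊗[A] B) (h) (l : Disc.Omega A B) :
    toHom ξ h l = pair ξ l := rfl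

/-- The element of `B ⊗ B` attached to a `B`-linear map `ω → B`. -/
noncomputable def ofHom (Φ : Disc.Omega A B →ₗ[B] B) : B ⊗[A] B :=
  ∑ i, e i ⊗ₜ[A] Φ (dual e i)

theorem pair_ofHom (Φ : Disc.Omega A B →ₗ[B] B) (l : Disc.Omega A B) :
    pair (ofHom e Φ) l = Φ l := by
  conv_rhs => rw [← sum_smul_dual e l]
  rw [ofHom, pair_sum, map_sum]
  refine Finset.sum_congr rfl fun i _ => ?_
  rw [pair_tmul, map_smul, smul_eq_mul, Algebra.smul_def]

variable [Module.Free A B] [Module.Finite A B]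

theorem ofHom_mem (Φ : Disc.Omega A B →ₗ[B] B) :
    ofHom e Φ ∈ Submodule.annihilator (RingHom.ker (Algebra.TensorProduct.lmul' (S := B) A)) := by
  rw [mem_annihilator_iff]
  intro b
  refine pair_ext fun l => ?_
  rw [pair_right_mul, pair_left_mul, pair_ofHom, pair_ofHom, map_smul]
  rfl

omit e in
theorem existsUnique_pair (Φ : Disc.Omega A B →ₗ[B] B) :
    ∃! ξ : B ⊗[A] B,
      ξ ∈ Submodule.annihilator (RingHom.ker (Algebra.TensorProduct.lmul' (S := B) A)) ∧
        ∀ l : Disc.Omega A B, Φ l = pair ξ l :=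
  ⟨ofHom (Module.Free.chooseBasis A B) Φ,
    ⟨ofHom_mem _ Φ, fun l => (pair_ofHom _ Φ l).symm⟩,
    fun _ hξ' => pair_ext fun l => ((pair_ofHom _ Φ l).trans (hξ'.2 l)).symm⟩

omit e in
theorem noetherDifferent_eq_range :
    (Disc.noetherDifferent A B : Set B) =
      Set.range (fun φ : Disc.Omega A B →ₗ[B] B => φ (Disc.Omega.trace A B)) := by
  classical
  let e := Module.Free.chooseBasis A B
  ext b
  rw [SetLike.mem_coe, Disc.noetherDifferent, Ideal.mem_map_iff_of_surjective _
    (fun b => ⟨b ⊗ₜ[A] (1 : B), by simp⟩)]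
  have key : ∀ Φ : Disc.Omega A B →ₗ[B] B,
      Φ (Disc.Omega.trace A B) = ∑ i, e i * Φ (dual e i) := by
    intro Φ
    rw [← sum_smul_dual_eq_trace e, map_sum]
    simp
  constructor
  · rintro ⟨ξ, hξ, rfl⟩
    exact ⟨toHom ξ hξ, by rw [mul'_eq_sum e ξ]; exact key _⟩
  · rintro ⟨Φ, rfl⟩
    refine ⟨ofHom e Φ, ofHom_mem e Φ, ?_⟩
    rw [mul'_eq_sum e]
    exact (Finset.sum_congr rfl fun i _ => by rw [pair_ofHom]).trans (key Φ).symm

theorem mem_differentSet_iff (b : B) :
    b ∈ Disc.differentSet A B ↔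
      ∀ φ : Disc.Omega A B, ∃ c : B, b • φ = c • Disc.Omega.trace A B := by
  constructor
  · intro h φ
    obtain ⟨c, hc⟩ := h φ.toLinearMap
    exact ⟨c, Disc.Omega.toLinearMap_injective (LinearMap.ext hc)⟩
  · intro h φ
    obtain ⟨c, hc⟩ := h ⟨φ⟩
    exact ⟨c, fun x => LinearMap.congr_fun (congrArg Disc.Omega.toLinearMap hc) x⟩

end Groth.Agent.DiscNoether25
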