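import Groth.Agent.Lib.Goren15.DepthZero
import Groth.Agent.Lib.Goren15.LCI
import Groth.Prelude.Def_CAlg
import Mathlib.RingTheory.Artinian.Module
import Mathlib.RingTheory.Spectrum.Prime.Noetherian
import Mathlib.RingTheory.HopkinsLevitzki

/-!
A finite dimensional algebra over a field is Gorenstein iff some functional gives a nondegenerate pairing.
-/

universe u

open IsLocalRing

namespace Groth.Agent.DiscNoether25

variable {k : Type u} [Field k]

/-- A functional whose pairing `(x, y) ↦ φ (x * y)` is nondegenerate. -/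
def IsNondeg {B : Type u} [CommRing B] [Algebra k B] (φ : B →ₗ[k] k) : Prop :=
  ∀ b : B, (∀ y, φ (b * y) = 0) → b = 0

section Local

variable (C : Type u) [CommRing C] [Algebra k C] [IsLocalRing C] [Module.Finite k C]

theorem exists_nondeg_of_gorenstein [LocCoh.IsGorensteinLocalRing C] :
    ∃ φ : C →ₗ[k] k, IsNondeg φ := by
  haveI : IsArtinianRing C := IsArtinianRing.of_finite k C
  have hdim : ringKrullDim C = 0 := ringKrullDimZero_iff_ringKrullDim_eq_zero.1 inferInstance
  have hcm : LocCoh.IsCohenMacaulayLocalRing C := GorenLib.isCohenMacaulayLocalRing_of_gorenstein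
  have hd : LocCoh.depth C C = 0 := by
    have h := hcm.supportDim_eq_depth
    rw [Module.supportDim_self_eq_ringKrullDim, hdim] at h
    exact (WithBot.coe_injective h).symm
  have hinj : Module.Injective C C := (Goren15.injective_and_artinian_of_gorenstein C hd).1
  -- every nonzero element has a nonzero multiple killed by the maximal ideal
  have hsoc : ∀ x : C, x ≠ 0 → ∃ y : C, y ∈ Ideal.span {x} ∧ y ≠ 0 ∧
      ∀ a ∈ maximalIdeal C, a * y = 0 := by
    intro x hx
    obtain ⟨I, ⟨hI0, hIx⟩, hmin⟩ := (wellFounded_lt (α := Ideal C)).has_min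
      {I : Ideal C | I ≠ ⊥ ∧ I ≤ Ideal.span {x}} ⟨_, by simpa using hx, le_rfl⟩
    obtain ⟨y, hyI, hy0⟩ := Submodule.exists_mem_ne_zero_of_ne_bot hI0
    refine ⟨y, hIx hyI, hy0, fun a ha => ?_⟩
    by_contra hay
    have hle : Ideal.span {a * y} ≤ I := by
      rw [Ideal.span_singleton_le_iff_mem]; exact I.mul_mem_left a hyI
    have heq : Ideal.span {a * y} = I := hle.eq_of_not_lt fun h =>
      hmin _ ⟨by simpa using hay, hle.trans hIx⟩ h
    obtain ⟨c, hc⟩ := Ideal.mem_span_singleton'.1 (heq.symm ▸ hyI : y ∈ Ideal.span {a * y})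
    have hu : IsUnit (1 - c * a) :=
      IsLocalRing.isUnit_one_sub_self_of_mem_nonunits _ ((maximalIdeal C).mul_mem_left c ha)
    refine hy0 ((hu.mul_right_eq_zero).1 ?_)
    rw [sub_mul, one_mul, mul_assoc, hc, sub_self]
  obtain ⟨s, -, hs0, hs⟩ := hsoc 1 one_ne_zero
  obtain ⟨φ₀, hφ₀⟩ := Module.Projective.exists_dual_ne_zero k hs0
  refine ⟨φ₀, fun b hb => ?_⟩
  by_contra hb0
  obtain ⟨t, htb, ht0, ht⟩ := hsoc b hb0
  -- the socle is generated by `s`
  let i : C ⧸ maximalIdeal C →ₗ[C] C :=
    Submodule.liftQ _ (LinearMap.mulRight C t) fun a ha => ht a ha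
  let j : C ⧸ maximalIdeal C →ₗ[C] C :=
    Submodule.liftQ _ (LinearMap.mulRight C s) fun a ha => hs a ha
  have hi : Function.Injective i := by
    rw [injective_iff_map_eq_zero]
    intro z hz
    obtain ⟨a, rfl⟩ := Submodule.Quotient.mk_surjective _ z
    rw [Submodule.Quotient.mk_eq_zero]
    by_contra ha
    exact ht0 ((IsLocalRing.notMem_maximalIdeal.1 ha).mul_right_eq_zero.1 hz)
  obtain ⟨h, hh⟩ := hinj.out i hi j
  have hst : s = h 1 * t := by
    have h1 := hh (Submodule.Quotient.mk 1)
    simp only [i, j, Submodule.liftQ_apply, LinearMap.mulRight_apply, one_mul] at h1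
    rw [← h1, mul_comm]
    conv_lhs => rw [show t = t • (1 : C) by simp, map_smul, smul_eq_mul]
  obtain ⟨c, hc⟩ := Ideal.mem_span_singleton'.1 htb
  refine hφ₀ ?_
  rw [hst, ← hc, ← mul_assoc, mul_comm]
  exact hb _

theorem gorenstein_of_nondeg (φ : C →ₗ[k] k) (hφ : IsNondeg φ) :
    LocCoh.IsGorensteinLocalRing C := by
  haveI : IsArtinianRing C := IsArtinianRing.of_finite k C
  haveI : IsNoetherianRing C := inferInstance
  let M : C →ₗ[k] C →ₗ[k] k := (LinearMap.mul k C).compr₂ φ
  have hM : Function.Injective M := by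
    rw [injective_iff_map_eq_zero]
    exact fun b hb => hφ b fun y => LinearMap.congr_fun hb y
  have hMs : Function.Surjective M :=
    (LinearMap.injective_iff_surjective_of_finrank_eq_finrank
      (by rw [Subspace.dual_finrank_eq])).1 hM
  refine Goren15.gorenstein_of_injective C (Module.Baer.injective fun I g => ?_)
  obtain ⟨ψ, hψ⟩ := LinearMap.exists_extend (p := Submodule.restrictScalars k I)
    (φ.comp (g.restrictScalars k))
  obtain ⟨c, hc⟩ := hMs ψ
  refine ⟨LinearMap.mulRight C c, fun x hx => ?_⟩
  apply eq_of_sub_eq_zero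
  refine hφ _ fun y => ?_
  have h1 : φ (g ⟨y * x, I.mul_mem_left y hx⟩) = φ (c * (y * x)) := by
    have := LinearMap.congr_fun hψ ⟨y * x, I.mul_mem_left y hx⟩
    rw [← hc] at this
    exact this.symm
  have h2 : g ⟨y * x, I.mul_mem_left y hx⟩ = y * g ⟨x, hx⟩ := map_smul g y ⟨x, hx⟩
  rw [h2] at h1
  rw [LinearMap.mulRight_apply, sub_mul, map_sub, sub_eq_zero, mul_comm (g ⟨x, hx⟩) y, h1]
  congr 1
  ring

end Local

section Global

variable (B : Type u) [CommRing B] [Algebra k B] [Module.Finite k B]

theorem eq_zero_of_forall_localization (b : B)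
    (h : ∀ q : MaximalSpectrum B, algebraMap B (Localization.AtPrime q.asIdeal) b = 0) : b = 0 := by
  by_contra hb
  have hne : (⊥ : Submodule B B).colon {b} ≠ ⊤ := by
    intro htop
    refine hb ?_
    have h1 : (1 : B) ∈ (⊥ : Submodule B B).colon {b} := by rw [htop]; trivial
    simpa [Submodule.mem_colon_singleton] using h1
  obtain ⟨q, hq, hle⟩ := Ideal.exists_le_maximal _ hne
  obtain ⟨⟨s, hs⟩, hsb⟩ := (IsLocalization.map_eq_zero_iff q.primeCompl _ _).1 (h ⟨q, hq⟩)
  exact hs (hle (Submodule.mem_colon_singleton.2 hsb))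

include k in
theorem exists_section (q : MaximalSpectrum B) :
    ∃ e : B, algebraMap B (Localization.AtPrime q.asIdeal) e = 1 ∧
      ∀ q' : MaximalSpectrum B, q' ≠ q → algebraMap B (Localization.AtPrime q'.asIdeal) e = 0 := by
  haveI : IsArtinianRing B := IsArtinianRing.of_finite k B
  obtain ⟨e, he, hidem, hmem⟩ := IsArtinianRing.exists_not_mem_forall_mem_of_ne q.asIdeal
  refine ⟨e, ?_, fun q' hne => ?_⟩
  · have hu : IsUnit (algebraMap B (Localization.AtPrime q.asIdeal) e) :=
      IsLocalization.map_units _ (⟨e, he⟩ : q.asIdeal.primeCompl)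
    exact hu.mul_left_cancel (by rw [← map_mul, hidem, mul_one])
  · have he' : e ∈ q'.asIdeal := hmem _ inferInstance fun h => hne (MaximalSpectrum.ext h)
    have h1 : 1 - e ∉ q'.asIdeal := fun h =>
      q'.isMaximal.ne_top ((Ideal.eq_top_iff_one _).2 (by simpa using add_mem h he'))
    exact (IsLocalization.map_eq_zero_iff q'.asIdeal.primeCompl _ _).2
      ⟨⟨_, h1⟩, by rw [sub_mul, one_mul, hidem, sub_self]⟩

include k in
theorem surjective_localization (q : MaximalSpectrum B) :
    Function.Surjective (algebraMap B (Localization.AtPrime q.asIdeal)) := by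
  haveI : IsArtinianRing B := IsArtinianRing.of_finite k B
  exact IsArtinianRing.localization_surjective q.asIdeal.primeCompl _

theorem finite_localization (q : MaximalSpectrum B) :
    Module.Finite k (Localization.AtPrime q.asIdeal) :=
  Module.Finite.of_surjective
    (IsScalarTower.toAlgHom k B (Localization.AtPrime q.asIdeal)).toLinearMap
    (surjective_localization (k := k) B q)

theorem exists_nondeg_of_gorensteinRing [h : LocCoh.IsGorensteinRing B] :
    ∃ φ : B →ₗ[k] k, IsNondeg φ := by
  classical
  haveI : IsArtinianRing B := IsArtinianRing.of_finite k B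
  haveI := Fintype.ofFinite (MaximalSpectrum B)
  have hq : ∀ q : MaximalSpectrum B,
      ∃ φ : Localization.AtPrime q.asIdeal →ₗ[k] k, IsNondeg φ := fun q => by
    haveI := finite_localization (k := k) B q
    haveI := h.isGorensteinLocalRing_localization q.asIdeal
    exact exists_nondeg_of_gorenstein (Localization.AtPrime q.asIdeal)
  choose φ hφ using hq
  refine ⟨∑ q, (φ q).comp (IsScalarTower.toAlgHom k B (Localization.AtPrime q.asIdeal)).toLinearMap,
    fun b hb => eq_zero_of_forall_localization B b fun q => hφ q _ fun z => ?_⟩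
  obtain ⟨z, rfl⟩ := surjective_localization (k := k) B q z
  obtain ⟨e, he, he'⟩ := exists_section (k := k) B q
  have := hb (e * z)
  rw [LinearMap.coe_sum, Finset.sum_apply, Finset.sum_eq_single q] at this
  · simpa [map_mul, he] using this
  · intro q' _ hne
    simp [map_mul, he' q' hne]
  · simp

theorem gorensteinRing_of_nondeg (φ : B →ₗ[k] k) (hφ : IsNondeg φ) :
    LocCoh.IsGorensteinRing B := by
  haveI : IsArtinianRing B := IsArtinianRing.of_finite k B
  refine ⟨fun p _ => ?_⟩
  let q : MaximalSpectrum B := ⟨p, IsArtinianRing.isMaximal_of_isPrime p⟩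
  haveI := finite_localization (k := k) B q
  obtain ⟨e, he, he'⟩ := exists_section (k := k) B q
  have hker : ∀ b : B, algebraMap B (Localization.AtPrime q.asIdeal) b = 0 → e * b = 0 := fun b hb =>
    eq_zero_of_forall_localization B _ fun q' => by
      rw [map_mul]
      rcases eq_or_ne q' q with rfl | hne
      · rw [hb, mul_zero]
      · rw [he' q' hne, zero_mul]
  have hs := surjective_localization (k := k) B q
  let ψ : Localization.AtPrime q.asIdeal →ₗ[k] k :=
    { toFun := fun c => φ (e * Function.surjInv hs c)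
      map_add' := fun c d => by
        rw [← map_add, ← sub_eq_zero, ← map_sub, ← mul_add, ← mul_sub, hker _ (by
          simp [Function.surjInv_eq hs]), map_zero]
      map_smul' := fun a c => by
        rw [RingHom.id_apply, ← map_smul, ← mul_smul_comm, ← sub_eq_zero, ← map_sub, ← mul_sub,
          hker _ (by simp [Function.surjInv_eq hs, Algebra.smul_def, map_mul,
            ← IsScalarTower.algebraMap_apply]), map_zero] }
  refine gorenstein_of_nondeg (Localization.AtPrime q.asIdeal) ψ fun c hc => ?_
  obtain ⟨b, rfl⟩ := hs c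
  have : e * b = 0 := hφ _ fun y => by
    have h2 := hc (algebraMap B _ y)
    change φ (e * Function.surjInv hs _) = 0 at h2
    have h3 := hker (Function.surjInv hs (algebraMap B _ b * algebraMap B _ y) - b * y)
      (by simp [Function.surjInv_eq hs, map_mul])
    rw [mul_sub, sub_eq_zero] at h3
    rw [mul_assoc, ← h3]; exact h2
  have h4 := congrArg (algebraMap B (Localization.AtPrime q.asIdeal)) this
  rwa [map_mul, he, one_mul, map_zero] at h4

end Global

end Groth.Agent.DiscNoether25
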