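import Groth.Agent.Lib.CI2.Gci
import Groth.Agent.S2235
import Groth.Prelude.Def_Disc
import Mathlib.Algebra.MvPolynomial.PDeriv
import Mathlib.RingTheory.QuasiFinite.Basic
import Mathlib.RingTheory.KrullDimension.Zero
import Mathlib.RingTheory.Spectrum.Prime.Noetherian

/-!
The Noether different of a quasi-finite global complete intersection.
-/

set_option maxHeartbeats 600000

universe u

open TensorProduct MvPolynomial

namespace Groth.Agent.DiscNoether25

theorem ringKrullDim_eq_zero_of_finite (κ S : Type*) [Field κ] [CommRing S] [Algebra κ S]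
    [Module.Finite κ S] [Nontrivial S] : ringKrullDim S = 0 := by
  haveI : IsArtinianRing S := IsArtinianRing.of_finite κ S
  exact ringKrullDimZero_iff_ringKrullDim_eq_zero.1 inferInstance

theorem isRelGCI_of_quasiFinite {R : Type u} [CommRing R] {n : ℕ}
    (F : Fin n → MvPolynomial (Fin n) R)
    [Algebra.QuasiFinite R (MvPolynomial (Fin n) R ⧸ Ideal.span (Set.range F))] :
    Synt.IsRelGCI R n n F := fun p hp => by
  haveI : Module.Finite p.asIdeal.ResidueField (p.asIdeal.Fiber (Synt.RelGCIRing R n n F)) :=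
    Algebra.QuasiFinite.finite_fiber _
  haveI := hp
  refine ⟨le_rfl, ?_⟩
  rw [Nat.sub_self]
  exact ringKrullDim_eq_zero_of_finite p.asIdeal.ResidueField
    (p.asIdeal.Fiber (Synt.RelGCIRing R n n F))

theorem ker_aeval_eq_span {R : Type u} [CommRing R] {σ : Type*} (b : σ → R) :
    RingHom.ker (aeval b : MvPolynomial σ R →ₐ[R] R) =
      Ideal.span (Set.range fun i => X i - C (b i)) := by
  refine le_antisymm (fun p hp => ?_) (Ideal.span_le.2 ?_)
  · set I := Ideal.span (Set.range fun i => (X i - C (b i) : MvPolynomial σ R))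
    have key : (Ideal.Quotient.mkₐ R I) =
        ((Ideal.Quotient.mkₐ R I).comp (Algebra.ofId R (MvPolynomial σ R))).comp (aeval b) := by
      refine algHom_ext fun i => ?_
      simp only [AlgHom.comp_apply, aeval_X, Ideal.Quotient.mkₐ_eq_mk]
      exact Ideal.Quotient.eq.2 (Ideal.subset_span ⟨i, rfl⟩)
    have := AlgHom.congr_fun key p
    rw [AlgHom.comp_apply, RingHom.mem_ker.1 hp, map_zero, Ideal.Quotient.mkₐ_eq_mk] at this
    exact Ideal.Quotient.eq_zero_iff_mem.1 this
  · rintro _ ⟨i, rfl⟩
    simp [RingHom.mem_ker]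

theorem isRelGCI_X_sub_C {R : Type u} [CommRing R] {n : ℕ} (b : Fin n → R) :
    Synt.IsRelGCI R n n (fun i => X i - C (b i)) := by
  haveI : Module.Finite R
      (MvPolynomial (Fin n) R ⧸ Ideal.span (Set.range fun i => (X i - C (b i) : MvPolynomial (Fin n) R))) := by
    rw [← ker_aeval_eq_span b]
    exact Module.Finite.equiv (Ideal.quotientKerAlgEquivOfSurjective
      (f := (aeval b : MvPolynomial (Fin n) R →ₐ[R] R)) (fun r => ⟨C r, aeval_C _ _⟩)).toLinearEquiv.symm
  exact isRelGCI_of_quasiFinite _

theorem aeval_pderiv_sum {R : Type u} [CommRing R] {n : ℕ} (b : Fin n → R)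
    (c : Fin n → MvPolynomial (Fin n) R) (j : Fin n) :
    aeval b (pderiv j (∑ k, c k * (X k - C (b k)))) = aeval b (c j) := by
  classical
  rw [map_sum, map_sum, Finset.sum_eq_single j]
  · simp
  · intro k _ hk
    simp [hk]
  · simp

theorem pullback_translate {B Q : Type u} [CommRing B] [CommRing Q] {n : ℕ} (b : Fin n → B)
    (e : Q ≃+* MvPolynomial (Fin n) B) :
    Ideal.span (Set.range fun i => e.symm (X i - C (b i))) =
        RingHom.ker ((aeval b : MvPolynomial (Fin n) B →ₐ[B] B).toRingHom.comp e.toRingHom) ∧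
      LCI.IsKoszulRegularSeq Q (List.ofFn fun i => e.symm (X i - C (b i))) := by
  constructor
  · refine le_antisymm (Ideal.span_le.2 ?_) fun x hx => ?_
    · rintro _ ⟨i, rfl⟩
      simp [RingHom.mem_ker]
    · have h : e x ∈ Ideal.span (Set.range fun i => (X i - C (b i) : MvPolynomial (Fin n) B)) := by
        rw [← ker_aeval_eq_span b]; exact hx
      have h2 := Ideal.mem_map_of_mem e.symm.toRingHom h
      rw [Ideal.map_span, ← Set.range_comp] at h2
      simpa [Function.comp_def] using h2
  · rw [CI2.isKoszulRegularSeq_iff_ex]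
    have h2 := (CI2.ex_of_isRelGCI (isRelGCI_X_sub_C b)).map_bijective
      (σ := e.symm.toRingHom) (B := Q) (N := Q)
      { toFun := e.symm
        map_add' := map_add e.symm
        map_smul' := fun a x => map_mul e.symm a x }
      e.symm.bijective
    rwa [List.map_ofFn] at h2

variable {A : Type u} [CommRing A] {n : ℕ} (f : Fin n → MvPolynomial (Fin n) A)
  [Algebra.QuasiFinite A (MvPolynomial (Fin n) A ⧸ Ideal.span (Set.range f))]

theorem flat_of_quasiFinite :
    Module.Flat A (MvPolynomial (Fin n) A ⧸ Ideal.span (Set.range f)) :=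
  CI2.flat_of_isRelGCI (isRelGCI_of_quasiFinite f)

theorem annihilator_eq_span :
    ∃ ξ, Submodule.annihilator (RingHom.ker (Algebra.TensorProduct.lmul'
          (S := MvPolynomial (Fin n) A ⧸ Ideal.span (Set.range f)) A)) = Ideal.span {ξ} ∧
      Algebra.TensorProduct.lmul' A ξ = Ideal.Quotient.mk (Ideal.span (Set.range f))
        (Matrix.det (Matrix.of fun i j => pderiv j (f i))) := by
  classical
  let P := MvPolynomial (Fin n) A
  let B := P ⧸ Ideal.span (Set.range f)
  haveI : Module.Flat A B := flat_of_quasiFinite f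
  let mk : P →ₐ[A] B := Ideal.Quotient.mkₐ A (Ideal.span (Set.range f))
  let b : Fin n → B := fun i => mk (X i)
  let e : P ⊗[A] B ≃+* MvPolynomial (Fin n) B :=
    (Algebra.TensorProduct.comm A P B).toRingEquiv.trans
      (MvPolynomial.algebraTensorAlgEquiv A B).toRingEquiv
  have he : ∀ (p : P) (y : B), e (p ⊗ₜ[A] y) = y • MvPolynomial.map (algebraMap A B) p := fun p y => by
    exact MvPolynomial.algebraTensorAlgEquiv_tmul (R := A) (A := B) y p
  let π := Algebra.TensorProduct.productMap mk (AlgHom.id A B)
  have hπ : ∀ x, π x = aeval b (e x) := by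
    intro x
    induction x using TensorProduct.induction_on with
    | zero => simp
    | tmul p y =>
      rw [he, map_smul, smul_eq_mul, Algebra.TensorProduct.productMap_apply_tmul, AlgHom.id_apply,
        mul_comm, aeval_map_algebraMap]
      congr 1
      exact AlgHom.congr_fun (aeval_unique mk) p
    | add x y hx hy => rw [map_add, map_add, map_add, hx, hy]
  let G : Fin n → MvPolynomial (Fin n) B := fun i => X i - C (b i)
  let g : Fin n → P ⊗[A] B := fun i => e.symm (G i)
  obtain ⟨hk, hg⟩ := pullback_translate (Q := P ⊗[A] B) b e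
  have hgker : Ideal.span (Set.range g) = RingHom.ker π := by
    refine hk.trans (Ideal.ext fun x => ?_)
    rw [RingHom.mem_ker, RingHom.mem_ker, hπ]
    rfl
  have hf : LCI.IsKoszulRegularSeq P (List.ofFn f) := by
    rw [CI2.isKoszulRegularSeq_iff_ex]
    exact CI2.ex_of_isRelGCI (isRelGCI_of_quasiFinite f)
  have hmem : ∀ i, e (f i ⊗ₜ[A] (1 : B)) ∈ Ideal.span (Set.range G) := fun i => by
    rw [← ker_aeval_eq_span b, RingHom.mem_ker, ← hπ, Algebra.TensorProduct.productMap_apply_tmul,
      map_one, mul_one]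
    exact Ideal.Quotient.eq_zero_iff_mem.2 (Ideal.subset_span ⟨i, rfl⟩)
  choose c hc using fun i => Ideal.mem_span_range_iff_exists_fun.1 (hmem i)
  let c' : Matrix (Fin n) (Fin n) (P ⊗[A] B) := Matrix.of fun i j => e.symm (c i j)
  have hc' : ∀ i, f i ⊗ₜ[A] (1 : B) = ∑ j, c' i j * g j := fun i => by
    apply e.injective
    rw [map_sum, ← hc i]
    simp [c', g, G]
  refine ⟨_, S2235.result f hf g hg hgker c' hc', ?_⟩
  have hcomp : ∀ x, Algebra.TensorProduct.lmul' A
      (Algebra.TensorProduct.map mk (AlgHom.id A B) x) = π x := fun x => by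
    induction x using TensorProduct.induction_on with
    | zero => simp
    | tmul p y => simp [π]
    | add x y hx hy => simp only [map_add, hx, hy]
  rw [hcomp]
  change π c'.det = mk _
  refine (AlgHom.map_det π c').trans (Eq.trans ?_ (AlgHom.map_det mk (Matrix.of fun i j => pderiv j (f i))).symm)
  congr 1
  ext i j
  simp only [AlgHom.mapMatrix_apply, Matrix.map_apply, Matrix.of_apply, c', hπ, e.apply_symm_apply]
  rw [← aeval_pderiv_sum b (c i) j, hc i, he, one_smul, pderiv_map, aeval_map_algebraMap]
  exact (AlgHom.congr_fun (aeval_unique mk) _).symm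

theorem noetherDifferent_gci :
    Disc.noetherDifferent A (MvPolynomial (Fin n) A ⧸ Ideal.span (Set.range f)) =
        Ideal.span {Ideal.Quotient.mk (Ideal.span (Set.range f))
          (Matrix.det (Matrix.of fun i j => pderiv j (f i)))} := by
  obtain ⟨ξ, hξ, hμ⟩ := annihilator_eq_span f
  rw [Disc.noetherDifferent, hξ, Ideal.map_span, Set.image_singleton, hμ]

end Groth.Agent.DiscNoether25
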