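import Groth.Agent.Lib.DiscNoether25.Norm
import Groth.Agent.Lib.DiscNoether25.GCI
import Groth.Agent.Lib.DiscNoether25.FieldGor
import Mathlib.RingTheory.LocalRing.ResidueField.Fiber
import Mathlib.RingTheory.TensorProduct.Free

/-!
Invertibility of `ω` and Gorenstein fibres.
-/

universe u v

open TensorProduct

namespace Groth.Agent.DiscNoether25

variable {A : Type u} {B : Type v} [CommRing A] [CommRing B] [Algebra A B]
variable {ι : Type*} [Fintype ι] [DecidableEq ι] (e : Module.Basis ι A B)

/-- The matrix of the pairing attached to a functional. -/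
noncomputable def pairMat (θ : B →ₗ[A] A) : Matrix ι ι A :=
  Matrix.of fun k j => θ (e k * e j)

theorem mulVec_pairMat (θ : B →ₗ[A] A) (b : B) (j : ι) :
    (pairMat e θ).transpose.mulVec (fun k => e.repr b k) j = θ (b * e j) := by
  rw [apply_mul_basis e θ b j]
  simp [Matrix.mulVec, dotProduct, pairMat, mul_comm]

theorem det_smul_eq_zero (θ : Disc.Omega A B) (b : B) (h : b • θ = 0) :
    (pairMat e θ.toLinearMap).det • b = 0 := by
  apply e.repr.injective
  rw [map_smul, map_zero]
  ext i
  have h1 : (pairMat e θ.toLinearMap).transpose.mulVec (fun k => e.repr b k) = 0 := by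
    funext j
    rw [mulVec_pairMat]
    exact LinearMap.congr_fun (congrArg Disc.Omega.toLinearMap h) (e j)
  have h2 := congrArg (pairMat e θ.toLinearMap).transpose.adjugate.mulVec h1
  rw [Matrix.mulVec_mulVec, Matrix.adjugate_mul, Matrix.smul_mulVec, Matrix.one_mulVec,
    Matrix.mulVec_zero, Matrix.det_transpose] at h2
  exact congrFun h2 i

theorem exists_smul_eq (θ φ : Disc.Omega A B) :
    ∃ c : B, c • θ = algebraMap A B (pairMat e θ.toLinearMap).det • φ := by
  set M := (pairMat e θ.toLinearMap).transpose with hM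
  set r := M.adjugate.mulVec fun j => φ.toLinearMap (e j) with hr
  refine ⟨e.equivFun.symm r, Disc.Omega.toLinearMap_injective (e.ext fun j => ?_)⟩
  rw [Disc.Omega.smul_toLinearMap_apply, smul_toLinearMap, LinearMap.smul_apply, ← mulVec_pairMat e]
  have hc : (fun k => e.repr (e.equivFun.symm r) k) = r := by
    funext k
    rw [← e.equivFun_apply, LinearEquiv.apply_symm_apply]
  rw [hc, ← hM, hr, Matrix.mulVec_mulVec, Matrix.mul_adjugate, Matrix.smul_mulVec, Matrix.one_mulVec,
    hM, Matrix.det_transpose]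
  rfl

theorem exists_det_notMem [Module.Finite A B] [Module.Free A B]
    [Module.Invertible B (Disc.Omega A B)] (p : Ideal A) [p.IsPrime] :
    ∃ θ : B →ₗ[A] A, (pairMat e θ).det ∉ p := by
  obtain ⟨θ, s, hs, h⟩ := exists_generator_at (B := B) p
  choose c hc using fun i => h (dual e i)
  refine ⟨θ.toLinearMap, fun hmem => ?_⟩
  have h1 := congrArg Matrix.det (leftMulMatrix_eq e (algebraMap A B s) θ c hc)
  rw [AlgHom.commutes, Matrix.det_mul, Matrix.algebraMap_eq_diagonal,
    Matrix.det_diagonal] at h1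
  simp only [Pi.algebraMap_apply, Algebra.algebraMap_self, RingHom.id_apply, Finset.prod_const] at h1
  have : s ^ Fintype.card ι ∈ p := by
    rw [show s ^ Fintype.card ι = _ from h1]
    exact p.mul_mem_left _ hmem
  exact hs (Ideal.IsPrime.mem_of_pow_mem inferInstance _ this)

theorem invertible_of_det
    (h : ∀ (p : Ideal A) [p.IsPrime], ∃ θ : B →ₗ[A] A, (pairMat e θ).det ∉ p) :
    Module.Invertible B (Disc.Omega A B) := by
  -- for each prime, a local generator and a coordinate along it
  have hloc : ∀ (p : Ideal A) [p.IsPrime], ∃ (s : A) (θ : Disc.Omega A B)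
      (Φ : Disc.Omega A B →ₗ[B] B), s ∉ p ∧ Φ θ = algebraMap A B (s * s) ∧
        ∀ φ, ∃ a : B, algebraMap A B s • φ = a • θ := by
    intro p _
    obtain ⟨θ, hθ⟩ := h p
    set s := (pairMat e θ).det
    choose c hc using exists_smul_eq e ⟨θ⟩
    have hz : ∀ b : B, b • (⟨θ⟩ : Disc.Omega A B) = 0 → algebraMap A B s * b = 0 := fun b hb => by
      rw [← Algebra.smul_def]; exact det_smul_eq_zero e ⟨θ⟩ b hb
    refine ⟨s, ⟨θ⟩,
      { toFun := fun φ => algebraMap A B s * c φ
        map_add' := fun φ ψ => by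
          rw [← sub_eq_zero, ← mul_add, ← mul_sub]
          refine hz _ ?_
          rw [sub_smul, add_smul, hc, hc, hc, smul_add, sub_self]
        map_smul' := fun r φ => by
          rw [RingHom.id_apply, smul_eq_mul, mul_left_comm, ← sub_eq_zero, ← mul_sub]
          refine hz _ ?_
          rw [sub_smul, mul_smul, hc, hc, smul_comm, sub_self] }, hθ, ?_, fun φ => ⟨c φ, (hc φ).symm⟩⟩
    change algebraMap A B s * c ⟨θ⟩ = _
    rw [map_mul, ← sub_eq_zero, ← mul_sub]
    refine hz _ ?_
    rw [sub_smul, hc, sub_self]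
  have hcomm : ∀ (Φ : Disc.Omega A B →ₗ[B] B) (x y : Disc.Omega A B), Φ x • y = Φ y • x := by
    intro Φ x y
    rw [← sub_eq_zero]
    set d := Φ x • y - Φ y • x
    let K : Ideal A := ((⊥ : Submodule B (Disc.Omega A B)).colon {d}).comap (algebraMap A B)
    suffices hK : K = ⊤ by
      have : (1 : A) ∈ K := by rw [hK]; trivial
      simpa [K, Submodule.mem_colon_singleton] using this
    by_contra hK
    obtain ⟨p, hp, hle⟩ := Ideal.exists_le_maximal K hK
    obtain ⟨s, θ, Ψ, hs, -, hgen⟩ := hloc p
    obtain ⟨a, ha⟩ := hgen x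
    obtain ⟨b, hb⟩ := hgen y
    refine hs ((hp.isPrime.mem_or_mem (hle ?_ : s * s ∈ p)).elim id id)
    rw [Ideal.mem_comap, Submodule.mem_colon_singleton, Submodule.mem_bot, map_mul, smul_sub,
      sub_eq_zero]
    have e1 : algebraMap A B s * Φ x = a * Φ θ := by
      rw [← smul_eq_mul, ← map_smul, ha, map_smul, smul_eq_mul]
    have e2 : algebraMap A B s * Φ y = b * Φ θ := by
      rw [← smul_eq_mul, ← map_smul, hb, map_smul, smul_eq_mul]
    calc (algebraMap A B s * algebraMap A B s) • Φ x • y
        = (algebraMap A B s * Φ x) • (algebraMap A B s • y) := by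
          simp only [smul_smul]; congr 1; ring
      _ = (algebraMap A B s * Φ y) • (algebraMap A B s • x) := by
          rw [e1, e2, ha, hb, smul_smul, smul_smul]; congr 1; ring
      _ = (algebraMap A B s * algebraMap A B s) • Φ y • x := by
          simp only [smul_smul]; congr 1; ring
  have hone : (1 : B) ∈ LinearMap.range (contractLeft B (Disc.Omega A B)) := by
    let J : Ideal B := LinearMap.range (contractLeft B (Disc.Omega A B))
    suffices hJ : J.comap (algebraMap A B) = ⊤ by
      have : (1 : A) ∈ J.comap (algebraMap A B) := by rw [hJ]; trivial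
      simpa [J] using this
    by_contra hJ
    obtain ⟨p, hp, hle⟩ := Ideal.exists_le_maximal _ hJ
    obtain ⟨s, θ, Φ, hs, hΦ, -⟩ := hloc p
    exact hs ((hp.isPrime.mem_or_mem (hle ⟨Φ ⊗ₜ θ, hΦ⟩ : s * s ∈ p)).elim id id)
  obtain ⟨t₁, ht₁⟩ := hone
  refine ⟨⟨(injective_iff_map_eq_zero _).2 fun t ht => ?_, fun b => ⟨b • t₁, by
    rw [map_smul, ht₁, smul_eq_mul, mul_one]⟩⟩⟩
  have key : ∀ t u : Module.Dual B (Disc.Omega A B) ⊗[B] Disc.Omega A B,
      contractLeft B (Disc.Omega A B) u • t = contractLeft B (Disc.Omega A B) t • u := by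
    intro t u
    induction t using TensorProduct.induction_on with
    | zero => simp
    | add t₁ t₂ h₁ h₂ => rw [smul_add, h₁, h₂, map_add, add_smul]
    | tmul Φ x =>
      induction u using TensorProduct.induction_on with
      | zero => simp
      | add u₁ u₂ h₁ h₂ => rw [map_add, add_smul, h₁, h₂, smul_add]
      | tmul Ψ y =>
        rw [contractLeft_apply, contractLeft_apply]
        have hΦ : Ψ y • Φ = Φ y • Ψ := LinearMap.ext fun z => by
          have := congrArg Ψ (hcomm Φ y z)
          rw [map_smul, map_smul, smul_eq_mul, smul_eq_mul] at this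
          rw [LinearMap.smul_apply, LinearMap.smul_apply, smul_eq_mul, smul_eq_mul, this, mul_comm]
        rw [TensorProduct.smul_tmul', hΦ, TensorProduct.smul_tmul, hcomm Φ y x, TensorProduct.tmul_smul]
  have h2 := key t t₁
  rw [ht₁, ht, zero_smul, one_smul] at h2
  exact h2

theorem isNondeg_iff_det {k F : Type u} [Field k] [CommRing F] [Algebra k F]
    {ι : Type*} [Fintype ι] [DecidableEq ι] (e : Module.Basis ι k F) (φ : F →ₗ[k] k) :
    IsNondeg φ ↔ (pairMat e φ).det ≠ 0 := by
  constructor
  · intro h hdet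
    rw [← Matrix.det_transpose] at hdet
    obtain ⟨v, hv, hv0⟩ := Matrix.exists_mulVec_eq_zero_iff.2 hdet
    refine hv (e.equivFun.symm.injective (a₂ := 0) ?_)
    rw [map_zero]
    refine h _ fun y => ?_
    have : φ.comp (LinearMap.mulLeft k (e.equivFun.symm v)) = 0 := e.ext fun j => by
      rw [LinearMap.comp_apply, LinearMap.mulLeft_apply, ← mulVec_pairMat e]
      have hc : (fun l => e.repr (e.equivFun.symm v) l) = v := by
        funext l
        rw [← e.equivFun_apply, LinearEquiv.apply_symm_apply]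
      rw [hc, hv0]; rfl
    exact LinearMap.congr_fun this y
  · intro hdet b hb
    have hzero : b • (⟨φ⟩ : Disc.Omega k F) = 0 :=
      Disc.Omega.toLinearMap_injective (LinearMap.ext fun y => hb y)
    exact (smul_eq_zero.1 (det_smul_eq_zero e ⟨φ⟩ b hzero)).resolve_left hdet

section Fibre

variable {A B : Type u} [CommRing A] [CommRing B] [Algebra A B]
  {ι : Type*} [Fintype ι] [DecidableEq ι] (e : Module.Basis ι A B) (p : Ideal A) [p.IsPrime]

theorem pairMat_baseChange (θ : B →ₗ[A] A) (θ' : p.Fiber B →ₗ[p.ResidueField] p.ResidueField)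
    (c : p.ResidueField)
    (h : ∀ l, θ' (Algebra.TensorProduct.basis p.ResidueField e l) =
      c * algebraMap A p.ResidueField (θ (e l))) :
    (pairMat (Algebra.TensorProduct.basis p.ResidueField e) θ').det =
      c ^ Fintype.card ι * algebraMap A p.ResidueField (pairMat e θ).det := by
  have key : ∀ b : B, θ' ((1 : p.ResidueField) ⊗ₜ[A] b) = c * algebraMap A p.ResidueField (θ b) := by
    have : ((θ'.restrictScalars A).comp ((TensorProduct.mk A p.ResidueField B) 1)) =
        (LinearMap.mulLeft A c).comp ((Algebra.linearMap A p.ResidueField).comp θ) :=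
      e.ext fun l => by
        have := h l
        rw [Algebra.TensorProduct.basis_apply] at this
        exact this
    exact fun b => LinearMap.congr_fun this b
  have hM : pairMat (Algebra.TensorProduct.basis p.ResidueField e) θ' =
      c • (pairMat e θ).map (algebraMap A p.ResidueField) := by
    ext k j
    simp only [pairMat, Matrix.of_apply, Matrix.smul_apply, Matrix.map_apply, smul_eq_mul,
      Algebra.TensorProduct.basis_apply, Algebra.TensorProduct.tmul_mul_tmul, one_mul]
    exact key _
  rw [hM, Matrix.det_smul, RingHom.map_det]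
  rfl

theorem exists_nondeg_fibre_iff :
    (∃ φ : p.Fiber B →ₗ[p.ResidueField] p.ResidueField, IsNondeg φ) ↔
      ∃ θ : B →ₗ[A] A, (pairMat e θ).det ∉ p := by
  constructor
  · rintro ⟨φ, hφ⟩
    rw [isNondeg_iff_det (Algebra.TensorProduct.basis p.ResidueField e)] at hφ
    obtain ⟨⟨d, hd⟩, hint⟩ := IsLocalization.exist_integer_multiples_of_finite
      (nonZeroDivisors (A ⧸ p)) fun l => φ (Algebra.TensorProduct.basis p.ResidueField e l)
    choose a ha using hint
    choose a' ha' using fun l => Ideal.Quotient.mk_surjective (a l)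
    have hd0 : algebraMap (A ⧸ p) p.ResidueField d ≠ 0 := fun h0 =>
      nonZeroDivisors.ne_zero hd ((IsFractionRing.injective (A ⧸ p) p.ResidueField)
        (h0.trans (map_zero _).symm))
    refine ⟨e.constr A a', fun hmem => hφ ?_⟩
    have hval : ∀ l, φ (Algebra.TensorProduct.basis p.ResidueField e l) =
        (algebraMap (A ⧸ p) p.ResidueField d)⁻¹ *
          algebraMap A p.ResidueField ((e.constr A a') (e l)) := fun l => by
      have := ha l
      rw [Algebra.smul_def] at this
      rw [e.constr_basis, IsScalarTower.algebraMap_apply A (A ⧸ p) p.ResidueField,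
        Ideal.Quotient.algebraMap_eq, ha', this, ← mul_assoc, inv_mul_cancel₀ hd0, one_mul]
    rw [pairMat_baseChange e p _ φ _ hval, Ideal.algebraMap_residueField_eq_zero.2 hmem, mul_zero]
  · rintro ⟨θ, hθ⟩
    refine ⟨(Algebra.TensorProduct.basis p.ResidueField e).constr p.ResidueField
      fun l => algebraMap A p.ResidueField (θ (e l)), ?_⟩
    rw [isNondeg_iff_det (Algebra.TensorProduct.basis p.ResidueField e),
      pairMat_baseChange e p θ _ 1 (fun l => by rw [Module.Basis.constr_basis, one_mul]),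
      one_pow, one_mul]
    exact fun h0 => hθ (Ideal.algebraMap_residueField_eq_zero.1 h0)

omit e in
omit [Fintype ι] [DecidableEq ι] in
theorem gorenstein_fibres_iff [Module.Finite A B] [Module.Free A B] :
    (∀ (p : Ideal A) [p.IsPrime], LocCoh.IsGorensteinRing (p.Fiber B)) ↔
      Module.Invertible B (Disc.Omega A B) := by
  classical
  let e := Module.Free.chooseBasis A B
  constructor
  · intro h
    refine invertible_of_det e fun p _ => (exists_nondeg_fibre_iff e p).1 ?_
    haveI := h p
    exact exists_nondeg_of_gorensteinRing (p.Fiber B)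
  · intro h p _
    obtain ⟨φ, hφ⟩ := (exists_nondeg_fibre_iff e p).2 (exists_det_notMem e p)
    exact gorensteinRing_of_nondeg (p.Fiber B) φ hφ

end Fibre

section CI

theorem isKoszulRegularIdeal_span {P : Type u} [CommRing P] {n : ℕ} (f : Fin n → P)
    (hf : CI2.Ex P P (List.ofFn f)) : LCI.IsKoszulRegularIdeal (Ideal.span (Set.range f)) := by
  intro q _
  refine ⟨1, q.asIdeal.ne_top_iff_one.1 q.isPrime.ne_top,
    (List.ofFn f).map (algebraMap P (Localization.Away (1 : P))),
    (CI2.isKoszulRegularSeq_iff_ex _).2 (CI2.Ex.localization (Submonoid.powers (1 : P)) hf), ?_⟩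
  rw [Ideal.map_span, List.map_ofFn]
  congr 1
  ext x
  simp [List.mem_ofFn]

theorem isGorensteinRing_gci {k : Type u} [Field k] {n : ℕ} (f : Fin n → MvPolynomial (Fin n) k)
    [Module.Finite k (MvPolynomial (Fin n) k ⧸ Ideal.span (Set.range f))] :
    LocCoh.IsGorensteinRing (MvPolynomial (Fin n) k ⧸ Ideal.span (Set.range f)) := by
  haveI := Goren15.isGorensteinRing_of_field k
  haveI := Goren15.isGorensteinRing_mvPolynomial k n
  refine Goren15.isGorensteinRing_of_surjective_koszulRegular (Ideal.Quotient.mk _)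
    Ideal.Quotient.mk_surjective ?_
  rw [Ideal.mk_ker]
  exact isKoszulRegularIdeal_span f (CI2.ex_of_isRelGCI (isRelGCI_of_quasiFinite f))

theorem omega_equiv_of_gorenstein_field (k F : Type u) [Field k] [CommRing F] [Algebra k F]
    [Module.Finite k F] [LocCoh.IsGorensteinRing F] :
    Nonempty (Disc.Omega k F ≃ₗ[F] F) := by
  classical
  obtain ⟨φ, hφ⟩ := exists_nondeg_of_gorensteinRing (k := k) F
  let e := Module.Free.chooseBasis k F
  have hdet := (isNondeg_iff_det e φ).1 hφ
  refine ⟨(LinearEquiv.ofBijective (LinearMap.toSpanSingleton F (Disc.Omega k F) ⟨φ⟩)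
    ⟨?_, fun ψ => ?_⟩).symm⟩
  · rw [injective_iff_map_eq_zero]
    intro b hb
    exact (smul_eq_zero.1 (det_smul_eq_zero e ⟨φ⟩ b hb)).resolve_left hdet
  · obtain ⟨c, hc⟩ := exists_smul_eq e ⟨φ⟩ ψ
    refine ⟨algebraMap k F (pairMat e φ).det⁻¹ * c, ?_⟩
    rw [LinearMap.toSpanSingleton_apply, mul_smul, hc, ← mul_smul, ← map_mul, inv_mul_cancel₀ hdet,
      map_one, one_smul]

theorem omega_equiv_gci_field (k : Type u) [Field k] (n : ℕ) (f : Fin n → MvPolynomial (Fin n) k)
    (h0 : ringKrullDim (MvPolynomial (Fin n) k ⧸ Ideal.span (Set.range f)) = 0) :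
    Nonempty (Disc.Omega k (MvPolynomial (Fin n) k ⧸ Ideal.span (Set.range f))
      ≃ₗ[MvPolynomial (Fin n) k ⧸ Ideal.span (Set.range f)]
        (MvPolynomial (Fin n) k ⧸ Ideal.span (Set.range f))) := by
  haveI : Ring.KrullDimLE 0 (MvPolynomial (Fin n) k ⧸ Ideal.span (Set.range f)) :=
    Ring.krullDimLE_iff.2 h0.le
  haveI : IsArtinianRing (MvPolynomial (Fin n) k ⧸ Ideal.span (Set.range f)) :=
    IsNoetherianRing.isArtinianRing_of_krullDimLE_zero
  haveI : Module.Finite k (MvPolynomial (Fin n) k ⧸ Ideal.span (Set.range f)) :=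
    (Module.finite_iff_isArtinianRing k _).2 inferInstance
  haveI := isGorensteinRing_gci f
  exact omega_equiv_of_gorenstein_field k _

variable {A : Type u} [CommRing A] {n : ℕ} (f : Fin n → MvPolynomial (Fin n) A)
  [Module.Finite A (MvPolynomial (Fin n) A ⧸ Ideal.span (Set.range f))]
  [Module.Free A (MvPolynomial (Fin n) A ⧸ Ideal.span (Set.range f))]

theorem invertible_omega_gci :
    Module.Invertible (MvPolynomial (Fin n) A ⧸ Ideal.span (Set.range f))
      (Disc.Omega A (MvPolynomial (Fin n) A ⧸ Ideal.span (Set.range f))) := by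
  classical
  refine gorenstein_fibres_iff.1 fun p _ => ?_
  let e := CI2.fibreEquiv p (Ideal.span (Set.range f))
  have hspan : (Ideal.span (Set.range f)).map (CI2.red p) =
      Ideal.span (Set.range fun i => CI2.red p (f i)) := by
    rw [Ideal.map_span, ← Set.range_comp]; rfl
  haveI : IsArtinianRing (MvPolynomial (Fin n) p.ResidueField ⧸
      Ideal.span (Set.range fun i => CI2.red p (f i))) := by
    haveI : IsArtinianRing (p.Fiber (MvPolynomial (Fin n) A ⧸ Ideal.span (Set.range f))) :=
      IsArtinianRing.of_finite p.ResidueField (p.Fiber (MvPolynomial (Fin n) A ⧸ Ideal.span (Set.range f)))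
    exact RingEquiv.isArtinianRing
      (R := p.Fiber (MvPolynomial (Fin n) A ⧸ Ideal.span (Set.range f))) (e.trans (Ideal.quotEquivOfEq hspan))
  haveI : Module.Finite p.ResidueField (MvPolynomial (Fin n) p.ResidueField ⧸
      Ideal.span (Set.range fun i => CI2.red p (f i))) :=
    (Module.finite_iff_isArtinianRing p.ResidueField _).2 inferInstance
  haveI := isGorensteinRing_gci (fun i => CI2.red p (f i))
  exact Goren15.isGorensteinRing_of_ringEquiv (e.trans (Ideal.quotEquivOfEq hspan)).symm

theorem exists_equiv_det_trace :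
    ∃ e : (MvPolynomial (Fin n) A ⧸ Ideal.span (Set.range f))
        ≃ₗ[MvPolynomial (Fin n) A ⧸ Ideal.span (Set.range f)]
          Disc.Omega A (MvPolynomial (Fin n) A ⧸ Ideal.span (Set.range f)),
      e (Ideal.Quotient.mk (Ideal.span (Set.range f))
        (Matrix.det (Matrix.of fun i j : Fin n => MvPolynomial.pderiv j (f i)))) =
        Disc.Omega.trace A (MvPolynomial (Fin n) A ⧸ Ideal.span (Set.range f)) := by
  classical
  haveI := invertible_omega_gci f
  obtain ⟨ξ, hξ, hμ⟩ := annihilator_eq_span f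
  let B := MvPolynomial (Fin n) A ⧸ Ideal.span (Set.range f)
  let b := Module.Free.chooseBasis A B
  let Φ₀ := toHom ξ (by rw [hξ]; exact Ideal.mem_span_singleton_self ξ)
  have hgen : ∀ Φ : Disc.Omega A B →ₗ[B] B, ∃ c : B, Φ = c • Φ₀ := by
    intro Φ
    have h1 := ofHom_mem b Φ
    rw [hξ] at h1
    obtain ⟨z, hz⟩ := Ideal.mem_span_singleton'.1 h1
    refine ⟨Algebra.TensorProduct.lmul' A z, LinearMap.ext fun l => ?_⟩
    have hd : z - (1 : B) ⊗ₜ[A] Algebra.TensorProduct.lmul' A z ∈
        RingHom.ker (Algebra.TensorProduct.lmul' (S := B) A) := by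
      simp [RingHom.mem_ker]
    have h2 : z * ξ = ((1 : B) ⊗ₜ[A] Algebra.TensorProduct.lmul' A z) * ξ := by
      rw [← sub_eq_zero, ← sub_mul, mul_comm]
      exact Submodule.mem_annihilator.1 (hξ ▸ Ideal.mem_span_singleton_self ξ) _ hd
    rw [← pair_ofHom b Φ l, ← hz, h2, pair_right_mul]
    rfl
  have hsurj : Function.Surjective Φ₀ := by
    obtain ⟨t, ht⟩ := (Module.Invertible.linearEquiv B (Disc.Omega A B)).surjective 1
    have key : ∀ t : Module.Dual B (Disc.Omega A B) ⊗[B] Disc.Omega A B,
        ∃ l, Φ₀ l = contractLeft B (Disc.Omega A B) t := by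
      intro t
      induction t using TensorProduct.induction_on with
      | zero => exact ⟨0, by simp⟩
      | add x y hx hy =>
        obtain ⟨l, hl⟩ := hx; obtain ⟨m, hm⟩ := hy
        exact ⟨l + m, by rw [map_add, hl, hm, map_add]⟩
      | tmul Φ x =>
        obtain ⟨c, rfl⟩ := hgen Φ
        exact ⟨c • x, by rw [map_smul, contractLeft_apply, LinearMap.smul_apply]⟩
    obtain ⟨l, hl⟩ := key t
    have h1 : Φ₀ l = 1 := hl.trans ht
    exact fun y => ⟨y • l, by rw [map_smul, h1, smul_eq_mul, mul_one]⟩
  refine ⟨(LinearEquiv.ofBijective Φ₀ (Module.Invertible.bijective_of_surjective hsurj)).symm, ?_⟩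
  rw [LinearEquiv.symm_apply_eq, LinearEquiv.ofBijective_apply]
  rw [← hμ, mul'_eq_sum b ξ, ← sum_smul_dual_eq_trace b, map_sum]
  refine Finset.sum_congr rfl fun i _ => ?_
  rw [map_smul, smul_eq_mul]
  rfl

end CI

end Groth.Agent.DiscNoether25
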