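import Groth.Agent.Lib.Fitting.Basic
import Mathlib.RingTheory.Kaehler.Basic
import Mathlib.Algebra.MvPolynomial.PDeriv
import Mathlib.Algebra.MvPolynomial.Derivation

/-!
The zeroth Fitting ideal of the differentials of `A[x]/(f)` with as many equations as variables.
-/

universe u

open MvPolynomial

namespace Groth.Agent.DiscNoether25

variable {A : Type u} [CommRing A] {n : ℕ} (f : Fin n → MvPolynomial (Fin n) A)

theorem derivation_apply_mk {B M : Type*} [CommRing B] [Algebra A B] [AddCommGroup M] [Module A M]
    [Module B M] (mk : MvPolynomial (Fin n) A →ₐ[A] B) (D : Derivation A B M)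
    (p : MvPolynomial (Fin n) A) : D (mk p) = ∑ j, mk (pderiv j p) • D (mk (X j)) := by
  induction p using MvPolynomial.induction_on with
  | C a =>
    rw [← MvPolynomial.algebraMap_eq, AlgHom.commutes, Derivation.map_algebraMap]
    simp
  | add p q hp hq => simp only [map_add, hp, hq, add_smul, Finset.sum_add_distrib]
  | mul_X p k hp =>
    rw [map_mul, Derivation.leibniz, hp, Finset.smul_sum]
    simp only [pderiv_mul, map_add, map_mul, add_smul, Finset.sum_add_distrib, smul_smul]
    rw [Finset.sum_eq_single (f := fun j => (mk p * mk (pderiv j (X k))) • D (mk (X j))) k]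
    · rw [pderiv_X_self, map_one, mul_one, add_comm]
      simp only [mul_comm]
    · intro j _ hj
      rw [pderiv_X_of_ne (fun h => hj h.symm), map_zero, mul_zero, zero_smul]
    · simp

theorem rel_D_le :
    FittingLib.rel (fun j : Fin n =>
        KaehlerDifferential.D A (MvPolynomial (Fin n) A ⧸ Ideal.span (Set.range f))
          (Ideal.Quotient.mk (Ideal.span (Set.range f)) (X j))) ≤
      Submodule.span (MvPolynomial (Fin n) A ⧸ Ideal.span (Set.range f))
        (Set.range fun i => fun j => Ideal.Quotient.mk (Ideal.span (Set.range f)) (pderiv j (f i))) := by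
  classical
  set I := Ideal.span (Set.range f) with hI
  let P := MvPolynomial (Fin n) A
  let B := P ⧸ I
  let mk : P →ₐ[A] B := Ideal.Quotient.mkₐ A I
  set T : Submodule B (Fin n → B) :=
    Submodule.span B (Set.range fun i => fun j => mk (pderiv j (f i)))
  let q : (Fin n → B) →ₗ[B] (Fin n → B) ⧸ T := T.mkQ
  let δ : P → (Fin n → B) ⧸ T := fun p => q fun j => mk (pderiv j p)
  have hadd : ∀ p p', δ (p + p') = δ p + δ p' := fun p p' => by
    simp only [δ, map_add]; exact map_add q _ _
  have hmul : ∀ p p', δ (p * p') = mk p • δ p' + mk p' • δ p := fun p p' => by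
    simp only [δ]
    rw [← map_smul q, ← map_smul q, ← map_add q]
    congr 1
    ext j
    simp [pderiv_mul]
  have hI0 : ∀ p ∈ I, δ p = 0 := fun p hp => by
    refine Submodule.span_induction (p := fun p _ => δ p = 0) ?_ ?_ ?_ ?_ hp
    · rintro _ ⟨i, rfl⟩
      exact (Submodule.Quotient.mk_eq_zero T).2 (Submodule.subset_span ⟨i, rfl⟩)
    · simp only [δ, map_zero]; exact map_zero q
    · intro x y _ _ hx hy; rw [hadd, hx, hy, add_zero]
    · intro a x hxmem hx
      rw [smul_eq_mul, hmul, hx, smul_zero, zero_add,
        show mk x = 0 from Ideal.Quotient.eq_zero_iff_mem.2 hxmem]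
      exact zero_smul B (δ a)
  have hwd : ∀ p p', mk p = mk p' → δ p = δ p' := fun p p' h => by
    have := hadd p' (p - p')
    rw [add_sub_cancel, hI0 _ (Ideal.Quotient.eq.1 h), add_zero] at this
    exact this
  have hsurj : Function.Surjective mk := Ideal.Quotient.mk_surjective
  let d : Derivation A B ((Fin n → B) ⧸ T) :=
    Derivation.mk'
      { toFun := fun b => δ (Function.surjInv hsurj b)
        map_add' := fun b b' => by
          rw [← hadd]
          exact hwd _ _ (by simp [Function.surjInv_eq hsurj])
        map_smul' := fun a b => by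
          have h1 : δ (C a * Function.surjInv hsurj b) = a • δ (Function.surjInv hsurj b) := by
            rw [hmul, show δ (C a) = 0 by simp only [δ, pderiv_C, map_zero]; exact map_zero q,
              smul_zero, add_zero, ← algebraMap_smul B a]
            rfl
          rw [RingHom.id_apply, ← h1]
          exact hwd _ _ (by
            rw [Function.surjInv_eq hsurj, map_mul, Function.surjInv_eq hsurj, Algebra.smul_def]
            rfl) }
      fun b b' => by
        have h := hmul (Function.surjInv hsurj b) (Function.surjInv hsurj b')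
        simp only [Function.surjInv_eq hsurj] at h
        simp only [LinearMap.coe_mk, AddHom.coe_mk]
        rw [← h]
        exact hwd _ _ (by simp [Function.surjInv_eq hsurj])
  intro v hv
  rw [FittingLib.mem_rel] at hv
  have h0 := congrArg d.liftKaehlerDifferential hv
  rw [map_zero, map_sum] at h0
  simp only [map_smul, Derivation.liftKaehlerDifferential_comp_D] at h0
  replace h0 : ∑ j, v j • d (mk (X j)) = 0 := by
    refine Eq.trans (Finset.sum_congr rfl fun j _ => ?_) h0
    exact congrArg (v j • ·) (d.liftKaehlerDifferential_comp_D (mk (X j))).symm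
  have hdX : ∀ j, d (mk (X j)) = q (Pi.single j 1) := fun j => by
    have : d (mk (X j)) = δ (X j) := hwd _ _ (Function.surjInv_eq hsurj _)
    rw [this]
    refine congrArg q (funext fun k => ?_)
    simp [pderiv_X, Pi.single_apply, apply_ite mk]
    simp [eq_comm]
  have hqv : q v = 0 := by
    rw [show v = ∑ j, v j • (Pi.single j 1 : Fin n → B) by
      ext k; simp [Finset.sum_apply, Pi.single_apply], map_sum]
    simp only [map_smul, ← hdX]
    exact h0
  exact (Submodule.Quotient.mk_eq_zero T).1 hqv

theorem span_D_eq_top :
    Submodule.span (MvPolynomial (Fin n) A ⧸ Ideal.span (Set.range f))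
      (Set.range fun j : Fin n =>
        KaehlerDifferential.D A (MvPolynomial (Fin n) A ⧸ Ideal.span (Set.range f))
          (Ideal.Quotient.mk (Ideal.span (Set.range f)) (X j))) = ⊤ := by
  rw [eq_top_iff, ← KaehlerDifferential.span_range_derivation, Submodule.span_le]
  rintro _ ⟨b, rfl⟩
  obtain ⟨p, rfl⟩ := Ideal.Quotient.mk_surjective b
  induction p using MvPolynomial.induction_on with
  | C a =>
    rw [show Ideal.Quotient.mk (Ideal.span (Set.range f)) (C a) = algebraMap A _ a from rfl,
      Derivation.map_algebraMap]
    exact zero_mem _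
  | add p q hp hq => rw [map_add, map_add]; exact add_mem hp hq
  | mul_X p i hp =>
    rw [map_mul, Derivation.leibniz]
    exact add_mem (Submodule.smul_mem _ _ (Submodule.subset_span ⟨i, rfl⟩))
      (Submodule.smul_mem _ _ hp)

theorem fitting_kaehler :
    Fitt.ideal (MvPolynomial (Fin n) A ⧸ Ideal.span (Set.range f))
        (KaehlerDifferential A (MvPolynomial (Fin n) A ⧸ Ideal.span (Set.range f))) 0 =
      Ideal.span {Ideal.Quotient.mk (Ideal.span (Set.range f))
        (Matrix.det (Matrix.of fun i j : Fin n => pderiv j (f i)))} := by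
  classical
  rw [FittingLib.ideal_eq_J _ (span_D_eq_top f)]
  set mk := Ideal.Quotient.mk (Ideal.span (Set.range f))
  set J0 : Matrix (Fin n) (Fin n) (MvPolynomial (Fin n) A ⧸ Ideal.span (Set.range f)) :=
    Matrix.of fun i j => mk (pderiv j (f i)) with hJ0
  have hdet : mk (Matrix.det (Matrix.of fun i j : Fin n => pderiv j (f i))) = J0.det := by
    rw [RingHom.map_det]; rfl
  rw [hdet]
  refine le_antisymm (FittingLib.J_le_of_forall _ (rel_D_le f) fun B S hS hB _ => ?_)
    (Ideal.span_le.2 (Set.singleton_subset_iff.2 (FittingLib.det_mem_J (S := ∅) le_rfl fun i _ => ?_)))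
  · have hS0 : S = ∅ := Finset.card_eq_zero.1 (Nat.le_zero.1 hS)
    choose σ hσ using fun i => hB i (by simp [hS0])
    have hBeq : B = J0.submatrix σ id := by ext i j; rw [← hσ i]; rfl
    by_cases hinj : Function.Injective σ
    · let e := Equiv.ofBijective σ (Finite.injective_iff_bijective.1 hinj)
      rw [hBeq, show J0.submatrix σ id = J0.submatrix e id from rfl, Matrix.det_permute]
      exact Ideal.mul_mem_left _ _ (Ideal.mem_span_singleton_self _)
    · rw [Function.not_injective_iff] at hinj
      obtain ⟨a, b, hab, hne⟩ := hinj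
      have h0 : B.det = 0 := Matrix.det_zero_of_row_eq hne (by rw [← hσ a, ← hσ b, hab])
      rw [h0]
      exact zero_mem _
  · rw [FittingLib.mem_rel]
    change ∑ j, mk (pderiv j (f i)) • KaehlerDifferential.D A _ (mk (X j)) = 0
    have h : ∀ p : MvPolynomial (Fin n) A, KaehlerDifferential.D A
        (MvPolynomial (Fin n) A ⧸ Ideal.span (Set.range f)) (mk p) =
        ∑ j, mk (pderiv j p) • KaehlerDifferential.D A _ (mk (X j)) :=
      derivation_apply_mk (Ideal.Quotient.mkₐ A _) (KaehlerDifferential.D A _)
    rw [← h, show mk (f i) = 0 from Ideal.Quotient.eq_zero_iff_mem.2 (Ideal.subset_span ⟨i, rfl⟩),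
      map_zero]

end Groth.Agent.DiscNoether25
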