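import Groth.Agent.Lib.DiscNoether25.Norm
import Mathlib.RingTheory.Unramified.Locus
import Mathlib.RingTheory.Nakayama

/-!
The zero locus of the Noether different is the ramification locus.
-/

universe u v

open TensorProduct

namespace Groth.Agent.DiscNoether25

variable {A : Type u} {B : Type v} [CommRing A] [CommRing B] [Algebra A B]

theorem mem_noetherDifferent {b : B} :
    b ∈ Disc.noetherDifferent A B ↔
      ∃ ξ : B ⊗[A] B,
        ξ ∈ Submodule.annihilator (RingHom.ker (Algebra.TensorProduct.lmul' (S := B) A)) ∧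
          Algebra.TensorProduct.lmul' A ξ = b :=
  Ideal.mem_map_iff_of_surjective _ (fun b => ⟨b ⊗ₜ[A] (1 : B), by simp⟩)

theorem not_le_iff_notMem_support [Algebra.EssFiniteType A B] (q : PrimeSpectrum B) :
    ¬ Disc.noetherDifferent A B ≤ q.asIdeal ↔
      q ∉ Module.support B (KaehlerDifferential A B) := by
  classical
  constructor
  · intro h
    obtain ⟨b, hb, hbq⟩ := SetLike.not_le_iff_exists.1 h
    obtain ⟨ξ, hξ, rfl⟩ := mem_noetherDifferent.1 hb
    rw [Module.notMem_support_iff']
    intro m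
    refine ⟨_, hbq, ?_⟩
    obtain ⟨x, rfl⟩ := (KaehlerDifferential.ideal A B).toCotangent_surjective m
    have hξx : ξ • (x : B ⊗[A] B) = 0 := Submodule.mem_annihilator.1 hξ _ x.2
    have hdiff : Algebra.TensorProduct.lmul' A ξ ⊗ₜ[A] (1 : B) - ξ ∈
        KaehlerDifferential.ideal A B := by simp [RingHom.mem_ker]
    rw [← algebraMap_smul (B ⊗[A] B) (Algebra.TensorProduct.lmul' A ξ)]
    refine ((map_smul (KaehlerDifferential.ideal A B).toCotangent _ x).symm).trans ?_
    refine (Ideal.toCotangent_eq_zero _ _).2 ?_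
    rw [sq]
    change (Algebra.TensorProduct.lmul' A ξ ⊗ₜ[A] (1 : B)) * (x : B ⊗[A] B) ∈ _
    have : (Algebra.TensorProduct.lmul' A ξ ⊗ₜ[A] (1 : B)) * (x : B ⊗[A] B) =
        (Algebra.TensorProduct.lmul' A ξ ⊗ₜ[A] (1 : B) - ξ) * (x : B ⊗[A] B) := by
      rw [sub_mul, ← smul_eq_mul ξ, hξx, sub_zero]
    rw [this]
    exact Ideal.mul_mem_mul hdiff x.2
  · intro h hle
    set I := KaehlerDifferential.ideal A B with hI
    set μ := (Algebra.TensorProduct.lmul' (S := B) A)
    set Q : Ideal (B ⊗[A] B) := q.asIdeal.comap μ with hQ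
    obtain ⟨G, hG⟩ := KaehlerDifferential.ideal_fg A B
    set J := I.map (algebraMap (B ⊗[A] B) (Localization.AtPrime Q)) with hJ
    have hJJ : J ≤ J • J := by
      rw [smul_eq_mul, hJ, ← Ideal.map_mul]
      conv_lhs => rw [hI, ← hG, Ideal.map_span]
      rw [Ideal.span_le]
      rintro _ ⟨x, hx, rfl⟩
      have hxI : x ∈ I := by rw [hI, ← hG]; exact Submodule.subset_span hx
      obtain ⟨r, hr, hr0⟩ := Module.notMem_support_iff'.1 h (I.toCotangent ⟨x, hxI⟩)
      rw [← algebraMap_smul (B ⊗[A] B) r] at hr0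
      have h2 : I.toCotangent ((algebraMap B (B ⊗[A] B) r) • ⟨x, hxI⟩) = 0 :=
        ((map_smul I.toCotangent _ _).trans hr0)
      rw [Ideal.toCotangent_eq_zero, sq] at h2
      have hu : IsUnit (algebraMap (B ⊗[A] B) (Localization.AtPrime Q)
          (algebraMap B (B ⊗[A] B) r)) := by
        refine IsLocalization.map_units _ (⟨_, ?_⟩ : Q.primeCompl)
        change μ (r ⊗ₜ[A] (1 : B)) ∉ q.asIdeal
        simpa [μ] using hr
      have h3 := Ideal.mem_map_of_mem (algebraMap (B ⊗[A] B) (Localization.AtPrime Q)) h2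
      rw [Submodule.coe_smul, smul_eq_mul, map_mul] at h3
      exact (Ideal.unit_mul_mem_iff_mem _ hu).1 h3
    have hJfg : J.FG := Ideal.FG.map ⟨G, hG⟩ _
    have hIQ : I ≤ Q := by
      intro x hx
      change μ x ∈ q.asIdeal
      rw [RingHom.mem_ker.1 hx]
      exact zero_mem _
    have hJ0 : J = ⊥ := by
      refine Submodule.eq_bot_of_le_smul_of_le_jacobson_bot J J hJfg hJJ ?_
      rw [IsLocalRing.jacobson_eq_maximalIdeal _ bot_ne_top,
        ← Localization.AtPrime.map_eq_maximalIdeal]
      exact Ideal.map_mono hIQ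
    have key : ∀ x ∈ G, ∃ r : B ⊗[A] B, r ∈ Q.primeCompl ∧ r * x = 0 := by
      intro x hx
      have : algebraMap (B ⊗[A] B) (Localization.AtPrime Q) x = 0 := by
        rw [← Ideal.mem_bot, ← hJ0]
        exact Ideal.mem_map_of_mem _ (by rw [hI, ← hG]; exact Submodule.subset_span hx)
      obtain ⟨⟨r, hr⟩, hrx⟩ := (IsLocalization.map_eq_zero_iff Q.primeCompl _ _).1 this
      exact ⟨r, hr, hrx⟩
    choose r hrQ hrx using key
    set R₀ := ∏ x ∈ G.attach, r x.1 x.2
    have hR : R₀ ∈ Q.primeCompl := Submonoid.prod_mem _ fun x _ => hrQ _ _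
    refine hR ?_
    refine hle (mem_noetherDifferent.2 ⟨R₀, ?_, rfl⟩)
    have hker : RingHom.ker (Algebra.TensorProduct.lmul' (S := B) A) =
        Submodule.span _ (G : Set (B ⊗[A] B)) := hG.symm
    rw [hker, Submodule.mem_annihilator_span]
    rintro ⟨x, hx⟩
    change R₀ * x = 0
    rw [show R₀ = _ from (Finset.prod_erase_mul _ _ (Finset.mem_attach G ⟨x, hx⟩)).symm,
      mul_assoc, hrx, mul_zero]

theorem zeroLocus_noetherDifferent [Algebra.EssFiniteType A B] :
    {q : PrimeSpectrum B | Disc.noetherDifferent A B ≤ q.asIdeal} =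
      (Algebra.unramifiedLocus A B)ᶜ := by
  rw [Algebra.unramifiedLocus_eq_compl_support, compl_compl]
  ext q
  exact not_iff_not.1 (not_le_iff_notMem_support q)

section

variable [Module.Free A B] [Module.Finite A B]

theorem noetherDifferent_subset_differentSet :
    (Disc.noetherDifferent A B : Set B) ⊆ Disc.differentSet A B := by
  classical
  rw [noetherDifferent_eq_range]
  rintro _ ⟨Φ, rfl⟩
  rw [mem_differentSet_iff]
  intro φ
  let e := Module.Free.chooseBasis A B
  refine ⟨Φ φ, Disc.Omega.toLinearMap_injective (LinearMap.ext fun x => ?_)⟩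
  set τ := Disc.Omega.trace A B
  -- both sides compute the trace of `x * Φ φ`
  have hτ : ∀ y : B, τ.toLinearMap y = ∑ i, e.coord i (e i * y) := by
    intro y
    have := LinearMap.congr_fun (congrArg Disc.Omega.toLinearMap (sum_smul_dual_eq_trace e)) y
    rw [← this]
    have h : ∀ (s : Finset (Module.Free.ChooseBasisIndex A B))
        (f : Module.Free.ChooseBasisIndex A B → Disc.Omega A B),
        (∑ i ∈ s, f i).toLinearMap = ∑ i ∈ s, (f i).toLinearMap := fun s f =>
      map_sum (AddMonoidHom.mk' (fun ψ : Disc.Omega A B => ψ.toLinearMap) (fun _ _ => rfl)) f s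
    rw [h, LinearMap.coe_sum, Finset.sum_apply]
    rfl
  have hΦ : ∀ ψ : Disc.Omega A B, Φ ψ = ∑ j, ψ.toLinearMap (e j) • Φ (dual e j) := by
    intro ψ
    conv_lhs => rw [← sum_smul_dual e ψ]
    simp [Algebra.smul_def]
  rw [Disc.Omega.smul_toLinearMap_apply, Disc.Omega.smul_toLinearMap_apply]
  have h1 : ∀ i, e i * (Φ φ * x) = ∑ j, φ.toLinearMap (e i * x * e j) • Φ (dual e j) := by
    intro i
    have : e i * (Φ φ * x) = Φ ((e i * x) • φ) := by rw [map_smul, smul_eq_mul]; ring
    rw [this, hΦ]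
    rfl
  dsimp only
  rw [hτ, show Φ τ = ∑ j, e j * Φ (dual e j) by
    rw [show τ = ∑ j, e j • dual e j from (sum_smul_dual_eq_trace e).symm, map_sum]
    simp]
  simp only [h1, map_sum, map_smul, smul_eq_mul, Finset.sum_mul]
  rw [Finset.sum_comm]
  refine Finset.sum_congr rfl fun j _ => ?_
  conv_lhs => rw [← e.sum_repr (Φ (dual e j)), Finset.mul_sum, Finset.sum_mul, map_sum]
  refine Finset.sum_congr rfl fun i _ => ?_
  rw [mul_smul_comm, smul_mul_assoc, map_smul, smul_eq_mul,
    show e j * e i * x = e i * x * e j by ring, mul_comm]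
  rfl

theorem sq_mem_noetherDifferent {b : B} (hb : b ∈ Disc.differentSet A B) :
    b ^ 2 ∈ Disc.noetherDifferent A B := by
  rw [← SetLike.mem_coe, noetherDifferent_eq_range]
  rw [mem_differentSet_iff] at hb
  choose c hc using hb
  set τ := Disc.Omega.trace A B
  have hann : ∀ a : B, a • τ = 0 → b * a = 0 := by
    intro a ha
    have h0 : ∀ φ : Disc.Omega A B, (b * a) • φ = 0 := by
      intro φ
      rw [mul_comm, mul_smul, hc φ, smul_comm, ha, smul_zero]
    let e := Module.Free.chooseBasis A B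
    apply e.repr.injective
    ext i
    have := LinearMap.congr_fun (congrArg Disc.Omega.toLinearMap (h0 (dual e i))) 1
    simpa [dual, Disc.Omega.smul_toLinearMap_apply] using this
  let Φ : Disc.Omega A B →ₗ[B] B :=
    { toFun := fun φ => b * c φ
      map_add' := fun φ ψ => by
        rw [← sub_eq_zero, ← mul_add, ← mul_sub]
        refine hann _ ?_
        rw [sub_smul, add_smul, ← hc, ← hc, ← hc, smul_add, sub_self]
      map_smul' := fun r φ => by
        rw [RingHom.id_apply, smul_eq_mul, mul_left_comm, ← sub_eq_zero, ← mul_sub]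
        refine hann _ ?_
        rw [sub_smul, mul_smul, ← hc, ← hc, smul_comm, sub_self] }
  refine ⟨Φ, ?_⟩
  change b * c τ = b ^ 2
  rw [sq, ← sub_eq_zero, ← mul_sub]
  refine hann _ ?_
  rw [sub_smul, ← hc, sub_self]

theorem differentSet_subset_iff [Algebra.EssFiniteType A B] (q : Ideal B) [q.IsPrime] :
    Disc.differentSet A B ⊆ q ↔ ¬Algebra.IsUnramifiedAt A q := by
  have h : Disc.noetherDifferent A B ≤ q ↔ ¬Algebra.IsUnramifiedAt A q :=
    Set.ext_iff.1 (zeroLocus_noetherDifferent (A := A) (B := B)) ⟨q, inferInstance⟩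
  rw [← h]
  refine ⟨fun h x hx => h (noetherDifferent_subset_differentSet hx), fun h b hb => ?_⟩
  exact Ideal.IsPrime.mem_of_pow_mem inferInstance 2 (h (sq_mem_noetherDifferent hb))

end

end Groth.Agent.DiscNoether25
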