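import Groth.Agent.Lib.DiscNoether25.Basic
import Mathlib.RingTheory.PicardGroup
import Mathlib.RingTheory.Trace.Basic
import Mathlib.RingTheory.Norm.Basic
import Mathlib.RingTheory.Discriminant
import Mathlib.RingTheory.LocalRing.ResidueField.Fiber
import Mathlib.RingTheory.Artinian.Module
import Mathlib.RingTheory.Artinian.Algebra
import Mathlib.RingTheory.QuasiFinite.Basic

/-!
Different versus Noether different for invertible `ω`, and the norm of the different.
-/

universe u v

open TensorProduct

namespace Groth.Agent.DiscNoether25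

variable {A : Type u} {B : Type v} [CommRing A] [CommRing B] [Algebra A B]

/-- In an invertible module, `Φ x • y = Φ y • x`. -/
theorem smul_comm_of_invertible {R : Type*} {M : Type*} [CommRing R] [AddCommGroup M] [Module R M]
    [Module.Invertible R M] (Φ : M →ₗ[R] R) (x y : M) : Φ x • y = Φ y • x := by
  have h := congrArg (fun t => TensorProduct.lid R M (LinearMap.rTensor M Φ t))
    (Module.Invertible.tmul_comm (R := R) (m₁ := x) (m₂ := y))
  simpa using h

theorem differentSet_eq [Module.Free A B] [Module.Finite A B]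
    [Module.Invertible B (Disc.Omega A B)] :
    Disc.differentSet A B = (Disc.noetherDifferent A B : Set B) := by
  rw [noetherDifferent_eq_range]
  ext b
  constructor
  · intro hb
    rw [mem_differentSet_iff] at hb
    choose c hc using hb
    obtain ⟨t, ht⟩ := (Module.Invertible.linearEquiv B (Disc.Omega A B)).surjective 1
    have key : ∀ t : Module.Dual B (Disc.Omega A B) ⊗[B] Disc.Omega A B,
        ∃ Φ : Disc.Omega A B →ₗ[B] B,
          Φ (Disc.Omega.trace A B) = b * contractLeft B (Disc.Omega A B) t := by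
      intro t
      induction t using TensorProduct.induction_on with
      | zero => exact ⟨0, by simp⟩
      | tmul Φ l =>
        refine ⟨c l • Φ, ?_⟩
        rw [contractLeft_apply, LinearMap.smul_apply, smul_eq_mul, ← smul_eq_mul (c l) _,
          ← map_smul, ← hc l, map_smul, smul_eq_mul]
      | add x y hx hy =>
        obtain ⟨Φ, hΦ⟩ := hx; obtain ⟨Ψ, hΨ⟩ := hy
        exact ⟨Φ + Ψ, by rw [LinearMap.add_apply, hΦ, hΨ, map_add, mul_add]⟩
    obtain ⟨Φ, hΦ⟩ := key t
    refine ⟨Φ, ?_⟩
    have : contractLeft B (Disc.Omega A B) t = 1 := ht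
    simpa [this] using hΦ
  · rintro ⟨Φ, rfl⟩
    rw [mem_differentSet_iff]
    intro φ
    exact ⟨Φ φ, smul_comm_of_invertible Φ _ _⟩

variable {ι : Type*} [Fintype ι] [DecidableEq ι] (e : Module.Basis ι A B)

theorem apply_mul_basis (φ : B →ₗ[A] A) (c : B) (j : ι) :
    φ (c * e j) = ∑ k, e.repr c k * φ (e k * e j) := by
  conv_lhs => rw [← e.sum_repr c, Finset.sum_mul, map_sum]
  refine Finset.sum_congr rfl fun k _ => ?_
  rw [smul_mul_assoc, map_smul, smul_eq_mul]

theorem coord_mul (b : B) (i j : ι) :
    e.coord i (b * e j) = Algebra.leftMulMatrix e b i j := by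
  rw [Algebra.leftMulMatrix_eq_repr_mul]
  rfl

/-- If every `b • e_i^*` is `c_i • θ` then the matrix of multiplication by `b` factors. -/
theorem leftMulMatrix_eq (b : B) (θ : Disc.Omega A B) (c : ι → B)
    (hc : ∀ i, b • dual e i = c i • θ) :
    Algebra.leftMulMatrix e b =
      (Matrix.of fun i k => e.repr (c i) k) * (Matrix.of fun k j => θ.toLinearMap (e k * e j)) := by
  ext i j
  rw [← coord_mul, Matrix.mul_apply]
  have := LinearMap.congr_fun (congrArg Disc.Omega.toLinearMap (hc i)) (e j)
  rw [Disc.Omega.smul_toLinearMap_apply, Disc.Omega.smul_toLinearMap_apply,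
    apply_mul_basis (φ := θ.toLinearMap) e] at this
  exact this

theorem traceMatrix_eq [Module.Free A B] [Module.Finite A B] :
    Algebra.traceMatrix A e =
      Matrix.of fun k j => (Disc.Omega.trace A B).toLinearMap (e k * e j) := by
  ext i j
  rw [Algebra.traceMatrix_apply, Algebra.traceForm_apply]
  rfl

theorem norm_mem_span_discr [Module.Free A B] [Module.Finite A B] {x : B}
    (hx : x ∈ Disc.differentSet A B) :
    Algebra.norm A x ∈ Ideal.span {Algebra.discr A e} := by
  rw [mem_differentSet_iff] at hx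
  choose c hc using fun i => hx (dual e i)
  rw [Algebra.norm_eq_matrix_det e, leftMulMatrix_eq e x _ c hc, Matrix.det_mul,
    Algebra.discr_def, traceMatrix_eq]
  exact Ideal.mul_mem_left _ _ (Ideal.mem_span_singleton_self _)

/-- If `s • ω ⊆ B • θ`, a nonzero multiple of the discriminant is a norm from the different. -/
theorem exists_mul_discr_mem [Module.Free A B] [Module.Finite A B] (θ : Disc.Omega A B) (s : A)
    (h : ∀ φ : Disc.Omega A B, ∃ c : B, algebraMap A B s • φ = c • θ) :
    ∃ t u : A, t * u = s ^ Fintype.card ι ∧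
      t * (s ^ Fintype.card ι * Algebra.discr A e) ∈
        Ideal.span (Algebra.norm A '' Disc.differentSet A B) := by
  choose c hc using h
  set n := Fintype.card ι
  set d : B := ∑ i, e i * c (dual e i) with hd
  have hτ : algebraMap A B s • Disc.Omega.trace A B = d • θ := by
    rw [← sum_smul_dual_eq_trace e, Finset.smul_sum, hd, Finset.sum_smul]
    refine Finset.sum_congr rfl fun i _ => ?_
    rw [mul_smul, smul_comm, hc]
  have hb : algebraMap A B s * d ∈ Disc.differentSet A B := by
    rw [mem_differentSet_iff]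
    intro φ
    refine ⟨algebraMap A B s * c φ, ?_⟩
    rw [mul_comm (algebraMap A B s) d, mul_smul, hc, smul_comm, ← hτ, smul_comm, ← mul_smul]
  set Θ : Matrix ι ι A := Matrix.of fun k j => θ.toLinearMap (e k * e j) with hΘ
  set C : Matrix ι ι A := Matrix.of fun i k => e.repr (c (dual e i)) k with hC
  have hsC : Matrix.diagonal (fun _ : ι => s) = C * Θ := by
    rw [hC, hΘ, ← leftMulMatrix_eq e (algebraMap A B s) θ _ (fun i => hc _),
      AlgHom.commutes]
    rfl
  have hsT : s • Algebra.traceMatrix A e = (Algebra.leftMulMatrix e d).transpose * Θ := by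
    ext k j
    rw [Matrix.smul_apply, traceMatrix_eq, Matrix.of_apply, Matrix.mul_apply]
    have := LinearMap.congr_fun (congrArg Disc.Omega.toLinearMap hτ) (e k * e j)
    rw [Disc.Omega.smul_toLinearMap_apply, Disc.Omega.smul_toLinearMap_apply, ← mul_assoc d,
      apply_mul_basis, ← Algebra.smul_def, map_smul] at this
    rw [this]
    refine Finset.sum_congr rfl fun l _ => ?_
    rw [Matrix.transpose_apply, Algebra.leftMulMatrix_eq_repr_mul]
    rfl
  have h1 : C.det * Θ.det = s ^ n := by
    rw [← Matrix.det_mul, ← hsC, Matrix.det_diagonal, Finset.prod_const]; rfl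
  have h2 : s ^ n * Algebra.discr A e = (Algebra.leftMulMatrix e d).det * Θ.det := by
    rw [Algebra.discr_def, ← Matrix.det_smul, hsT, Matrix.det_mul, Matrix.det_transpose]
  refine ⟨C.det, Θ.det, h1, ?_⟩
  refine Ideal.subset_span ⟨_, hb, ?_⟩
  rw [h2, map_mul, Algebra.norm_algebraMap_of_basis e, Algebra.norm_eq_matrix_det e, ← h1]
  ring

omit e in
omit [Fintype ι] [DecidableEq ι] in
theorem finite_maximalSpectrum (R C : Type*) [CommRing R] [IsLocalRing R] [CommRing C]
    [Algebra R C] [Module.Finite R C] : Finite (MaximalSpectrum C) := by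
  have hfin : ((IsLocalRing.maximalIdeal R).primesOver C).Finite :=
    Algebra.QuasiFinite.finite_primesOver _
  have := hfin.to_subtype
  refine Finite.of_injective
    (fun m : MaximalSpectrum C => (⟨m.asIdeal, ⟨m.isMaximal.isPrime, ⟨?_⟩⟩⟩ :
      (IsLocalRing.maximalIdeal R).primesOver C)) ?_
  · have := m.isMaximal
    exact (IsLocalRing.eq_maximalIdeal (Ideal.isMaximal_comap_of_isIntegral_of_isMaximal
      (R := R) m.asIdeal)).symm
  · intro a b h
    exact MaximalSpectrum.ext (congrArg Subtype.val h)

omit e in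
omit [Fintype ι] [DecidableEq ι] in
/-- Over each prime of `A`, an invertible `ω` is generated by one element up to a factor
outside the prime. -/
theorem exists_generator_at [Module.Finite A B] [Module.Free A B]
    [Module.Invertible B (Disc.Omega A B)] (p : Ideal A) [p.IsPrime] :
    ∃ (θ : Disc.Omega A B) (s : A), s ∉ p ∧
      ∀ φ : Disc.Omega A B, ∃ c : B, algebraMap A B s • φ = c • θ := by
  classical
  set S : Submonoid B := Algebra.algebraMapSubmonoid B p.primeCompl with hS
  have hfin : Finite (MaximalSpectrum (Localization S)) := by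
    have : Module.Finite (Localization.AtPrime p) (Localization S) :=
      Module.Finite.of_isLocalization A B p.primeCompl
    exact finite_maximalSpectrum (Localization.AtPrime p) (Localization S)
  obtain ⟨f⟩ := (Module.Invertible.free_iff_linearEquiv (R := Localization S)
    (M := LocalizedModule S (Disc.Omega A B))).1 inferInstance
  obtain ⟨θ, u, hθ⟩ : ∃ θ u, LocalizedModule.mk (S := S) θ u = f.symm 1 := by
    induction f.symm 1 using LocalizedModule.induction_on with | _ m s => exact ⟨m, s, rfl⟩
  obtain ⟨G, hG⟩ := Module.Finite.fg_top (R := B) (M := Disc.Omega A B)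
  have key : ∀ φ : Disc.Omega A B, ∃ (t : A) (c : B), t ∉ p ∧ algebraMap A B t • φ = c • θ := by
    intro φ
    set z := f (LocalizedModule.mkLinearMap S _ φ)
    obtain ⟨a, w, hz⟩ := IsLocalization.exists_mk'_eq S z
    have h1 : LocalizedModule.mk φ 1 = IsLocalization.mk' (Localization S) a w • f.symm 1 := by
      rw [hz, ← map_smul, smul_eq_mul, mul_one, f.symm_apply_apply]
      rfl
    rw [← hθ, ← Localization.mk_eq_mk', LocalizedModule.mk_smul_mk] at h1
    obtain ⟨⟨v, hv⟩, hv'⟩ := LocalizedModule.mk_eq.1 h1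
    obtain ⟨v₀, hv₀, rfl⟩ := hv
    obtain ⟨w₀, hw₀, hw⟩ := w.2
    obtain ⟨u₀, hu₀, hu⟩ := u.2
    refine ⟨v₀ * (w₀ * u₀), algebraMap A B v₀ * a,
      p.primeCompl.mul_mem hv₀ (p.primeCompl.mul_mem hw₀ hu₀), ?_⟩
    simp only [Submonoid.smul_def, Submonoid.coe_mul, one_smul, ← hw, ← hu] at hv'
    rw [map_mul, map_mul, mul_smul, hv', mul_smul]
  choose t c ht hc using key
  refine ⟨θ, ∏ g ∈ G, t g, p.primeCompl.prod_mem (fun g _ => ht g), fun φ => ?_⟩
  have hφ : φ ∈ Submodule.span B (G : Set (Disc.Omega A B)) := by rw [hG]; trivial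
  refine Submodule.span_induction
    (p := fun φ _ => ∃ d : B, algebraMap A B (∏ g ∈ G, t g) • φ = d • θ) ?_ ?_ ?_ ?_ hφ
  · intro g hg
    refine ⟨algebraMap A B (∏ g' ∈ G.erase g, t g') * c g, ?_⟩
    rw [← Finset.mul_prod_erase G t hg, map_mul, mul_comm, mul_smul, hc g, mul_smul]
  · exact ⟨0, by simp⟩
  · rintro x y _ _ ⟨d, hd⟩ ⟨d', hd'⟩
    exact ⟨d + d', by rw [smul_add, hd, hd', add_smul]⟩
  · rintro r x _ ⟨d, hd⟩
    exact ⟨r * d, by rw [smul_comm, hd, mul_smul]⟩

theorem span_norm_differentSet [Module.Finite A B] [Module.Free A B]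
    [Module.Invertible B (Disc.Omega A B)] :
    Ideal.span (Algebra.norm A '' Disc.differentSet A B) = Ideal.span {Algebra.discr A e} := by
  refine le_antisymm (Ideal.span_le.2 ?_) ?_
  · rintro _ ⟨x, hx, rfl⟩
    exact norm_mem_span_discr e hx
  · rw [Ideal.span_singleton_le_iff_mem]
    by_contra hne
    set I := Ideal.span (Algebra.norm A '' Disc.differentSet A B)
    have hJ : I.colon {Algebra.discr A e} ≠ ⊤ := by
      intro h
      refine hne ?_
      have h1 : (1 : A) ∈ I.colon {Algebra.discr A e} := by rw [h]; trivial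
      simpa [Submodule.mem_colon_singleton] using h1
    obtain ⟨p, hp, hIp⟩ := Ideal.exists_le_maximal _ hJ
    obtain ⟨θ, s, hs, hθ⟩ := exists_generator_at (B := B) p
    obtain ⟨t, u, htu, hmem⟩ := exists_mul_discr_mem e θ s hθ
    have : t * s ^ Fintype.card ι ∈ I.colon {Algebra.discr A e} := by
      rw [Submodule.mem_colon_singleton, smul_eq_mul, mul_assoc]; exact hmem
    have htp : t ∉ p := by
      intro h
      exact hs (hp.isPrime.mem_of_pow_mem _ (htu ▸ p.mul_mem_right u h))
    rcases hp.isPrime.mem_or_mem (hIp this) with h | h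
    · exact htp h
    · exact hs (hp.isPrime.mem_of_pow_mem _ h)

end Groth.Agent.DiscNoether25
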