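import Groth.Agent.Lib.DiscNoether25.BaseChange
import Groth.Agent.Lib.DiscNoether25.Basic
import Mathlib.RingTheory.Etale.QuasiFinite
import Mathlib.RingTheory.Smooth.Flat
import Mathlib.Algebra.Module.FinitePresentation
import Mathlib.LinearAlgebra.Dual.BaseChange
import Mathlib.AlgebraicGeometry.Morphisms.Preimmersion
import Mathlib.RingTheory.LocalProperties.Basic
import Mathlib.RingTheory.LocalRing.Module
import Mathlib.RingTheory.Flat.FaithfullyFlat.Algebra

/-!
Flatness of the relative dualizing module of a flat quasi-finite map.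
-/

set_option backward.isDefEq.respectTransparency.types false
set_option maxHeartbeats 300000

universe u

open TensorProduct

namespace Groth.Agent.DiscNoether25

variable {A B : Type u} [CommRing A] [CommRing B] [Algebra A B]

/-- The base ring acts on `ω` through `A → B`. -/
scoped instance omegaModule : Module A (Disc.Omega A B) :=
  Module.compHom _ (algebraMap A B)

scoped instance omegaTower : IsScalarTower A B (Disc.Omega A B) :=
  IsScalarTower.of_algebraMap_smul fun _ _ => rfl

/-- `ω` is the dual. -/
noncomputable def omegaEquiv : Disc.Omega A B ≃ₗ[A] Module.Dual A B where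
  toFun φ := φ.toLinearMap
  invFun φ := ⟨φ⟩
  map_add' _ _ := rfl
  map_smul' a φ := smul_toLinearMap a φ
  left_inv _ := rfl
  right_inv _ := rfl

variable {A' : Type u} [CommRing A'] [Algebra A A']

/-- Multiplication by an element of `A' ⊗ B` on `A' ⊗ ω`. -/
noncomputable def act : A' ⊗[A] B →ₗ[A] Module.End A (A' ⊗[A] Disc.Omega A B) :=
  TensorProduct.lift ((TensorProduct.mapBilinear (.id A) A' (Disc.Omega A B) A' (Disc.Omega A B)).compl₁₂
    (LinearMap.mul A A') (Algebra.lsmul A A (Disc.Omega A B)).toLinearMap)

theorem act_tmul (r r' : A') (b : B) (φ : Disc.Omega A B) :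
    act (r ⊗ₜ[A] b) (r' ⊗ₜ[A] φ) = (r * r') ⊗ₜ[A] (b • φ) := rfl

/-- The base change of `ω` seen inside the dual of `A' ⊗ B`. -/
noncomputable def omegaBC : Disc.Omega A B →ₗ[A] Module.Dual A' (A' ⊗[A] B) :=
  (Module.Dual.baseChange A' : Module.Dual A B →ₗ[A] _).comp (omegaEquiv (A := A) (B := B)).toLinearMap

theorem isBaseChange_dual [Module.Flat A A'] [Module.FinitePresentation A B] :
    IsBaseChange A' (Module.Dual.baseChange A' : Module.Dual A B →ₗ[A] Module.Dual A' (A' ⊗[A] B)) := by
  let E : ((A' ⊗[A] B) →ₗ[A'] (A' ⊗[A] A)) ≃ₗ[A'] Module.Dual A' (A' ⊗[A] B) :=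
    LinearEquiv.congrRight (AlgebraTensorModule.rid A A' A')
  refine IsBaseChange.of_equiv ((Module.FinitePresentation.isBaseChange_map A B A A').equiv.trans E)
    fun f => ?_
  rw [LinearEquiv.trans_apply, IsBaseChange.equiv_tmul, one_smul]
  rfl

theorem isBaseChange_omegaBC [Module.Flat A A'] [Module.FinitePresentation A B] :
    IsBaseChange A' (omegaBC (A := A) (B := B) (A' := A')) :=
  IsBaseChange.comp_equiv (omegaEquiv (A := A) (B := B)) _ isBaseChange_dual

theorem omegaBC_act [Module.Flat A A'] [Module.FinitePresentation A B] (z w : A' ⊗[A] B)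
    (ψ : A' ⊗[A] Disc.Omega A B) :
    (isBaseChange_omegaBC (A := A) (B := B) (A' := A')).equiv (act z ψ) w =
      (isBaseChange_omegaBC (A := A) (B := B) (A' := A')).equiv ψ (z * w) := by
  induction z using TensorProduct.induction_on with
  | zero => simp
  | add z z' hz hz' => simp only [map_add, LinearMap.add_apply, hz, hz', add_mul]
  | tmul r b =>
    induction ψ using TensorProduct.induction_on with
    | zero => simp
    | add ψ ψ' h h' => simp only [map_add, LinearMap.add_apply, h, h']
    | tmul r' φ =>
      induction w using TensorProduct.induction_on with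
      | zero => simp
      | add w w' h h' => simp only [map_add, mul_add, h, h']
      | tmul s c =>
        rw [act_tmul, IsBaseChange.equiv_tmul, IsBaseChange.equiv_tmul,
          Algebra.TensorProduct.tmul_mul_tmul]
        simp only [omegaBC, LinearMap.comp_apply, LinearMap.smul_apply, smul_eq_mul,
          LinearEquiv.coe_coe, Module.Dual.baseChange_apply_tmul]
        simp only [omegaEquiv, LinearEquiv.coe_mk, LinearMap.coe_mk, AddHom.coe_mk,
          Disc.Omega.smul_toLinearMap_apply, Algebra.smul_def]
        ring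

theorem act_eq_comp [Module.Flat A A'] [Module.FinitePresentation A B] {n : Type u} [Fintype n]
    (e : A' ⊗[A] B) (y : n → A' ⊗[A] B) (δ : n → Module.Dual A' (A' ⊗[A] B))
    (h : ∀ z, e * z = ∑ i, δ i z • (e * y i)) :
    ∃ (F : A' ⊗[A] Disc.Omega A B →ₗ[A] (n → A')) (G : (n → A') →ₗ[A] A' ⊗[A] Disc.Omega A B),
      act e = G.comp F := by
  classical
  let Φ := (isBaseChange_omegaBC (A := A) (B := B) (A' := A')).equiv
  refine ⟨LinearMap.pi fun i => ((LinearMap.applyₗ (e * y i)).comp Φ.toLinearMap).restrictScalars A,
    (Φ.symm.toLinearMap.comp (Fintype.linearCombination A' δ)).restrictScalars A, ?_⟩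
  refine LinearMap.ext fun ψ => Φ.injective (LinearMap.ext fun z => ?_)
  rw [omegaBC_act, h z, map_sum]
  simp only [LinearMap.comp_apply, LinearMap.coe_restrictScalars, LinearEquiv.coe_coe,
    LinearEquiv.apply_symm_apply, Fintype.linearCombination_apply, LinearMap.coe_sum,
    Finset.sum_apply, LinearMap.smul_apply, LinearMap.pi_apply, LinearMap.applyₗ_apply_apply,
    map_smul, smul_eq_mul]
  exact Finset.sum_congr rfl fun i _ => mul_comm _ _

theorem rTensor_act_eq_lTensor (J : Ideal A) (x : Disc.Omega A B ⊗[A] J) (z : A' ⊗[A] B) :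
    (act z).rTensor J ((TensorProduct.mk A A' (Disc.Omega A B) 1).rTensor J x) =
      (TensorProduct.assoc A A' (Disc.Omega A B) J).symm
        (((LinearMap.toSpanSingleton B _ x).restrictScalars A).lTensor A' z) := by
  induction z using TensorProduct.induction_on with
  | zero => simp
  | add z z' hz hz' => simp only [map_add, LinearMap.rTensor_add, LinearMap.add_apply, hz, hz']
  | tmul r b =>
    rw [LinearMap.lTensor_tmul, LinearMap.coe_restrictScalars, LinearMap.toSpanSingleton_apply]
    induction x using TensorProduct.induction_on with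
    | zero => simp
    | add x x' hx hx' => simp only [map_add, smul_add, TensorProduct.tmul_add, hx, hx']
    | tmul φ j =>
      rw [LinearMap.rTensor_tmul, LinearMap.rTensor_tmul, TensorProduct.mk_apply, act_tmul,
        mul_one, TensorProduct.smul_tmul', TensorProduct.assoc_symm_tmul]

/-- An element of the kernel is killed outside `q`. -/
theorem exists_smul_eq_zero [Module.Finite A B] [Module.FinitePresentation A B] (q : Ideal B)
    [q.IsPrime] [Module.Flat A (Localization.AtPrime q)] (J : Ideal A)
    (x : Disc.Omega A B ⊗[A] J) (hx : J.subtype.lTensor (Disc.Omega A B) x = 0) :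
    ∃ s ∉ q, s • x = 0 := by
  classical
  let p := q.comap (algebraMap A B)
  haveI : q.LiesOver p := ⟨rfl⟩
  obtain ⟨R', _, _, _, P, _, _, e₀, he₀, P', _, _, hP'q, he₀P', -, -, huniq⟩ :=
    Algebra.exists_etale_isIdempotentElem_forall_liesOver_eq (S := B) p q
  let A' := Localization.AtPrime P
  haveI : Module.Flat A R' := inferInstance
  haveI : Module.Flat A A' := Module.Flat.trans A R' A'
  let ι : R' ⊗[A] B →ₐ[A] A' ⊗[A] B :=
    Algebra.TensorProduct.map (IsScalarTower.toAlgHom A R' A') (AlgHom.id A B)
  let e := ι e₀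
  have he : IsIdempotentElem e := he₀.map ι
  -- a prime of `A' ⊗ B` over `q` avoiding `e`
  let κ := P'.ResidueField
  let χ : R' ⊗[A] B →ₐ[A] κ := (IsScalarTower.toAlgHom A (R' ⊗[A] B) κ)
  have hχ0 : ∀ z, χ z = 0 ↔ z ∈ P' := fun z => Ideal.algebraMap_residueField_eq_zero
  have hunit : ∀ r : P.primeCompl, IsUnit ((χ.comp Algebra.TensorProduct.includeLeft) r.1) := fun r =>
    IsUnit.mk0 _ fun h => r.2 (by
      have := (hχ0 _).1 h
      exact (SetLike.ext_iff.1 (P'.over_def P) r.1).2 this)
  let χA : A' →ₐ[A] κ := IsLocalization.liftAlgHom (M := P.primeCompl) hunit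
  let χ' : A' ⊗[A] B →ₐ[A] κ :=
    Algebra.TensorProduct.lift χA (χ.comp Algebra.TensorProduct.includeRight) fun _ _ => .all _ _
  have hχ' : ∀ z, χ' (ι z) = χ z := fun z => by
    induction z using TensorProduct.induction_on with
    | zero => simp
    | add z z' hz hz' => rw [map_add, map_add, map_add, hz, hz']
    | tmul r b =>
      simp only [ι, Algebra.TensorProduct.map_tmul, χ', Algebra.TensorProduct.lift_tmul,
        AlgHom.comp_apply, IsScalarTower.coe_toAlgHom', AlgHom.id_apply]
      rw [show χA (algebraMap R' A' r) = χ (r ⊗ₜ 1) from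
        IsLocalization.lift_eq (M := P.primeCompl) _ _, Algebra.TensorProduct.includeRight_apply,
        ← map_mul, Algebra.TensorProduct.tmul_mul_tmul, mul_one, one_mul]
  have hχe : χ' e ≠ 0 := fun h => he₀P' ((hχ0 _).1 ((hχ' e₀).symm.trans h))
  have hχb : ∀ b ∈ q, χ' ((1 : A') ⊗ₜ[A] b) = 0 := fun b hb => by
    rw [show (1 : A') ⊗ₜ[A] b = ι ((1 : R') ⊗ₜ b) by simp [ι], hχ', hχ0]
    exact (SetLike.ext_iff.1 hP'q b).2 hb
  -- the local factor
  let T := Localization.Away e
  have hsurj : Function.Surjective (algebraMap (A' ⊗[A] B) T) :=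
    IsLocalization.Away.algebraMap_surjective_of_isIdempotentElem e he
  haveI : Module.Finite A' T :=
    Module.Finite.of_surjective (IsScalarTower.toAlgHom A' (A' ⊗[A] B) T).toLinearMap hsurj
  have hunitT : ∀ b : q.primeCompl,
      IsUnit ((((IsScalarTower.toAlgHom A (A' ⊗[A] B) T)).comp Algebra.TensorProduct.includeRight) b.1) := by
    intro b
    by_contra hb
    obtain ⟨m, hm, hbm⟩ := exists_max_ideal_of_mem_nonunits hb
    have hover : (m.comap (algebraMap A' T)).IsMaximal :=
      Ideal.isMaximal_comap_of_isIntegral_of_isMaximal (R := A') m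
    let P'' : Ideal (R' ⊗[A] B) := m.comap ((algebraMap (A' ⊗[A] B) T).comp ι.toRingHom)
    haveI : P''.IsPrime := Ideal.IsPrime.comap _
    haveI : P''.LiesOver P := ⟨by
      ext r
      rw [Ideal.mem_comap, Ideal.mem_comap, ← IsLocalization.AtPrime.to_map_mem_maximal_iff A' P r,
        ← IsLocalRing.eq_maximalIdeal hover, Ideal.mem_comap,
        IsScalarTower.algebraMap_apply A' (A' ⊗[A] B) T]
      simp [ι, Algebra.TensorProduct.algebraMap_apply]⟩
    have heP : e₀ ∉ P'' := fun h =>
      hm.ne_top (Ideal.eq_top_of_isUnit_mem _ h (IsLocalization.Away.algebraMap_isUnit e))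
    have hb' : (1 : R') ⊗ₜ[A] b.1 ∈ P'' := by
      rw [Ideal.mem_comap]
      simpa [ι] using hbm
    rw [huniq P'' inferInstance inferInstance heP] at hb'
    exact b.2 ((SetLike.ext_iff.1 hP'q b.1).1 hb')
  haveI : Module.Flat A' T := by
    let C := A' ⊗[A] Localization.AtPrime q
    let j : A' ⊗[A] B →ₐ[A'] C :=
      Algebra.TensorProduct.map (AlgHom.id A' A') (IsScalarTower.toAlgHom A B _)
    let Ce := Localization.Away (j e)
    haveI : Module.Flat A' C := inferInstance
    haveI : Module.Flat A' Ce := Module.Flat.trans A' C Ce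
    let a : T →ₐ[A'] Ce := IsLocalization.liftAlgHom (M := Submonoid.powers e)
      (f := (IsScalarTower.toAlgHom A' C Ce).comp j) (by
        rintro ⟨_, k, rfl⟩
        rw [map_pow]
        exact (IsLocalization.Away.algebraMap_isUnit (j e)).pow k)
    let c : C →ₐ[A'] T :=
      Algebra.TensorProduct.lift (Algebra.ofId A' T) (IsLocalization.liftAlgHom hunitT)
        fun _ _ => .all _ _
    have hc : ∀ z, c (j z) = algebraMap (A' ⊗[A] B) T z := fun z => by
      induction z using TensorProduct.induction_on with
      | zero => simp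
      | add z z' hz hz' => rw [map_add, map_add, map_add, hz, hz']
      | tmul r b =>
        rw [show c (j (r ⊗ₜ[A] b)) = algebraMap A' T r *
          (IsLocalization.liftAlgHom hunitT) (algebraMap B (Localization.AtPrime q) b) from rfl]
        rw [show (IsLocalization.liftAlgHom hunitT) (algebraMap B (Localization.AtPrime q) b) =
          algebraMap (A' ⊗[A] B) T (1 ⊗ₜ b) from IsLocalization.lift_eq (M := q.primeCompl) _ _,
          IsScalarTower.algebraMap_apply A' (A' ⊗[A] B) T, ← map_mul]
        simp [Algebra.TensorProduct.algebraMap_apply]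
    let b : Ce →ₐ[A'] T := IsLocalization.liftAlgHom (M := Submonoid.powers (j e)) (f := c) (by
      rintro ⟨_, k, rfl⟩
      rw [map_pow, hc]
      exact (IsLocalization.Away.algebraMap_isUnit e).pow k)
    refine Module.Flat.of_retract a.toLinearMap b.toLinearMap (LinearMap.ext fun t => ?_)
    obtain ⟨z, rfl⟩ := hsurj t
    change b (a (algebraMap (A' ⊗[A] B) T z)) = _
    rw [show a (algebraMap (A' ⊗[A] B) T z) = algebraMap C Ce (j z) from
      IsLocalization.lift_eq (M := Submonoid.powers e) _ _,
      show b (algebraMap C Ce (j z)) = c (j z) from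
      IsLocalization.lift_eq (M := Submonoid.powers (j e)) _ _, hc]
    rfl
  haveI : Module.Free A' T := Module.free_of_flat_of_isLocalRing
  let β := Module.Free.chooseBasis A' T
  choose y hy using fun i => hsurj (β i)
  let δ := fun i => (β.coord i).comp (IsScalarTower.toAlgHom A' (A' ⊗[A] B) T).toLinearMap
  have hfac : ∀ z, e * z = ∑ i, δ i z • (e * y i) := fun z => by
    have h0 : algebraMap (A' ⊗[A] B) T (z - ∑ i, δ i z • y i) = 0 := by
      rw [map_sub, map_sum]
      have : ∀ i, algebraMap (A' ⊗[A] B) T (δ i z • y i) = δ i z • β i := fun i => by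
        rw [← hy i]
        exact map_smul (IsScalarTower.toAlgHom A' (A' ⊗[A] B) T) _ _
      simp only [this]
      rw [sub_eq_zero]
      exact (β.sum_repr _).symm
    obtain ⟨⟨_, k, rfl⟩, hk⟩ := (IsLocalization.map_eq_zero_iff (Submonoid.powers e) T _).1 h0
    have : e * (z - ∑ i, δ i z • y i) = 0 := by
      have h1 := congrArg (e * ·) hk
      simp only [mul_zero, ← mul_assoc, ← pow_succ'] at h1
      rwa [he.pow_succ_eq] at h1
    rw [mul_sub, sub_eq_zero, Finset.mul_sum] at this
    simp only [mul_smul_comm] at this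
    exact this
  obtain ⟨F, G, hFG⟩ := act_eq_comp e y δ hfac
  set x' := (TensorProduct.mk A A' (Disc.Omega A B) 1).rTensor J x with hx'
  haveI : Module.Flat A (Module.Free.ChooseBasisIndex A' T → A') :=
    Module.Flat.trans A A' (Module.Free.ChooseBasisIndex A' T → A')
  have hkill : (act e).rTensor J x' = 0 := by
    have h1 : F.rTensor J x' = 0 := by
      refine Module.Flat.lTensor_preserves_injective_linearMap (M := Module.Free.ChooseBasisIndex A' T → A')
        J.subtype J.injective_subtype ?_
      rw [map_zero, hx', ← LinearMap.comp_apply, LinearMap.lTensor_comp_rTensor,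
        ← LinearMap.comp_apply, LinearMap.map_comp_rTensor, ← LinearMap.rTensor_comp_lTensor,
        LinearMap.comp_apply, hx, map_zero]
    rw [hFG, LinearMap.rTensor_comp, LinearMap.comp_apply, h1, map_zero]
  rw [hx', rTensor_act_eq_lTensor, LinearEquiv.map_eq_zero_iff] at hkill
  let ν := (LinearMap.toSpanSingleton B _ x).restrictScalars A
  by_contra hne
  push Not at hne
  have hI : ∀ b : B, b • x = 0 → b ∈ q := fun b hb => by
    by_contra h
    exact hne b h hb
  have hexact : Function.Exact ((LinearMap.ker ν).subtype.lTensor A') (ν.lTensor A') :=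
    Module.Flat.lTensor_exact A' (LinearMap.exact_subtype_ker_map ν)
  obtain ⟨w, hw⟩ := (hexact e).1 hkill
  refine hχe ?_
  rw [← hw]
  clear hw
  induction w using TensorProduct.induction_on with
  | zero => simp
  | add w w' h h' => rw [map_add, map_add, h, h', add_zero]
  | tmul r b =>
    rw [LinearMap.lTensor_tmul]
    have h1 : (r ⊗ₜ[A] (b : B) : A' ⊗[A] B) = (r ⊗ₜ 1) * (1 ⊗ₜ (b : B)) := by simp
    change χ' (r ⊗ₜ[A] (b : B)) = 0
    rw [h1, map_mul, hχb (b : B) (hI (b : B) b.2), mul_zero]

open AlgebraicGeometry CategoryTheory in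
theorem flat_localization_comap {A B' B : Type u} [CommRing A] [CommRing B'] [CommRing B]
    [Algebra A B] [Module.Flat A B] [Algebra A B'] [Algebra B' B] [IsScalarTower A B' B]
    (hopen : IsOpenImmersion (Spec.map (CommRingCat.ofHom (algebraMap B' B)))) (Q : Ideal B) [Q.IsPrime] :
    Module.Flat A (Localization.AtPrime (Q.comap (algebraMap B' B))) := by
  let q := Q.comap (algebraMap B' B)
  let l := Localization.localRingHom q Q (algebraMap B' B) rfl
  have hf : (algebraMap B' B).Flat := flat_of_isOpenImmersion hopen
  have hsurj : Function.Surjective l :=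
    (HasRingHomProperty.Spec_iff (P := @AlgebraicGeometry.SurjectiveOnStalks)).1
      (inferInstance : AlgebraicGeometry.SurjectiveOnStalks
        (Spec.map (CommRingCat.ofHom (algebraMap B' B)))) Q inferInstance
  have hlf : l.Flat := hf.localRingHom Q q rfl
  have hinj : Function.Injective l := by
    letI : Algebra (Localization.AtPrime q) (Localization.AtPrime Q) := l.toAlgebra
    haveI : Module.Flat (Localization.AtPrime q) (Localization.AtPrime Q) := hlf
    haveI : IsLocalHom (algebraMap (Localization.AtPrime q) (Localization.AtPrime Q)) :=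
      Localization.isLocalHom_localRingHom q Q (algebraMap B' B) rfl
    haveI : Module.FaithfullyFlat (Localization.AtPrime q) (Localization.AtPrime Q) :=
      Module.FaithfullyFlat.of_flat_of_isLocalHom
    exact FaithfulSMul.algebraMap_injective (Localization.AtPrime q) (Localization.AtPrime Q)
  let l' : Localization.AtPrime q →ₐ[A] Localization.AtPrime Q :=
    { l with
      commutes' := fun a => by
        change l (algebraMap A _ a) = _
        rw [IsScalarTower.algebraMap_apply A B' (Localization.AtPrime q),
          Localization.localRingHom_to_map, ← IsScalarTower.algebraMap_apply A B' B,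
          ← IsScalarTower.algebraMap_apply A B (Localization.AtPrime Q)] }
  haveI : Module.Flat A (Localization.AtPrime Q) := Module.Flat.trans A B _
  exact Module.Flat.of_linearEquiv (AlgEquiv.ofBijective l' ⟨hinj, hsurj⟩).toLinearEquiv

open AlgebraicGeometry CategoryTheory in
theorem flat_omega_baseChange {A B B' : Type u} [CommRing A] [CommRing B] [CommRing B']
    [IsNoetherianRing A] [Algebra A B] [Module.Flat A B] [Algebra A B'] [Algebra B' B]
    [IsScalarTower A B' B] [Module.Finite A B']
    (hopen : IsOpenImmersion (Spec.map (CommRingCat.ofHom (algebraMap B' B)))) :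
    Module.Flat A (B ⊗[B'] Disc.Omega A B') := by
  haveI : Module.FinitePresentation A B' := Module.finitePresentation_of_finite A B'
  haveI : Module.Flat B' B := RingHom.flat_algebraMap_iff.1 (flat_of_isOpenImmersion hopen)
  refine Module.Flat.iff_lTensor_injective'.2 fun J => ?_
  rw [injective_iff_map_eq_zero]
  intro z hz
  let μ : Disc.Omega A B' ⊗[A] J →ₗ[B'] Disc.Omega A B' ⊗[A] A :=
    AlgebraTensorModule.lTensor B' (Disc.Omega A B') J.subtype
  let a₁ := AlgebraTensorModule.assoc A B' B B (Disc.Omega A B') J
  let a₂ := AlgebraTensorModule.assoc A B' B B (Disc.Omega A B') A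
  have hnat : ∀ z, μ.lTensor B (a₁ z) = a₂ (J.subtype.lTensor (B ⊗[B'] Disc.Omega A B') z) := fun z => by
    induction z using TensorProduct.induction_on with
    | zero => simp
    | add z z' h h' => simp only [map_add, h, h']
    | tmul w j =>
      induction w using TensorProduct.induction_on with
      | zero => simp
      | add w w' h h' => simp only [TensorProduct.add_tmul, map_add, h, h']
      | tmul b φ => rfl
  have hexact : Function.Exact ((LinearMap.ker μ).subtype.lTensor B) (μ.lTensor B) :=
    Module.Flat.lTensor_exact B (LinearMap.exact_subtype_ker_map μ)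
  obtain ⟨w, hw⟩ := (hexact (a₁ z)).1 (by rw [hnat, hz, map_zero])
  refine a₁.injective (hw.symm.trans ?_)
  rw [map_zero]
  clear hw hz
  induction w using TensorProduct.induction_on with
  | zero => simp
  | add w w' h h' => rw [map_add, h, h', add_zero]
  | tmul b k =>
    rw [LinearMap.lTensor_tmul]
    by_contra hne
    have htop : (⊥ : Submodule B (B ⊗[B'] (Disc.Omega A B' ⊗[A] J))).colon {b ⊗ₜ[B'] k.1} ≠ ⊤ := by
      intro h
      refine hne ?_
      have h1 : (1 : B) ∈ (⊥ : Submodule B _).colon {b ⊗ₜ[B'] k.1} := by rw [h]; trivial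
      simpa [Submodule.mem_colon_singleton] using h1
    obtain ⟨Q, hQ, hle⟩ := Ideal.exists_le_maximal _ htop
    haveI := flat_localization_comap (A := A) hopen Q
    obtain ⟨s, hs, hsx⟩ := exists_smul_eq_zero (Q.comap (algebraMap B' B)) J k.1 k.2
    refine hs (hle (Submodule.mem_colon_singleton.2 ?_))
    rw [Submodule.mem_bot, algebraMap_smul, ← TensorProduct.tmul_smul, hsx, TensorProduct.tmul_zero]

end Groth.Agent.DiscNoether25
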