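import Groth.Agent.Lib.DiscNoether25.Invertible
import Groth.Agent.Lib.DiscNoether25.BaseChange
import Groth.Agent.Lib.DiscNoether25.KaehlerFitting
import Groth.Agent.Lib.Fitting.More
import Groth.Agent.Lib.CI2.SyntKoszul
import Groth.Agent.S2237
import Mathlib.RingTheory.Etale.Kaehler

/-!
For finite free syntomic maps the different is the Kähler different.
-/

universe u

open TensorProduct AlgebraicGeometry CategoryTheory

namespace Groth.Agent.DiscNoether25

theorem isGorensteinRing_of_isLCIOver {k F : Type u} [Field k] [CommRing F] [Algebra k F]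
    (h : Synt.IsLCIOver k F) : LocCoh.IsGorensteinRing F := by
  haveI := Goren15.isGorensteinRing_of_field k
  haveI := h.1
  refine Goren15.isGorensteinRing_of_isLCI k F (CI2.isLCI_of_isSyntomic ⟨inferInstance,
    Algebra.FinitePresentation.of_finiteType.1 inferInstance, fun p => ?_⟩)
  have hp : p.asIdeal.IsMaximal := by
    have : p.asIdeal = ⊥ :=
      (Ideal.eq_bot_or_top p.asIdeal).resolve_right p.isPrime.ne_top
    rw [this]; exact Ideal.bot_isMaximal
  let σ : k ≃ₐ[k] p.asIdeal.ResidueField :=
    AlgEquiv.ofBijective (Algebra.ofId k p.asIdeal.ResidueField)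
      ⟨RingHom.injective _, Ideal.algebraMap_residueField_surjective p.asIdeal⟩
  let e : F ≃ₐ[k] p.asIdeal.Fiber F :=
    (Algebra.TensorProduct.lid k F).symm.trans (Algebra.TensorProduct.congr σ AlgEquiv.refl)
  refine CI2.isLCIOver_congr_semilinear σ.toRingEquiv e.toRingEquiv (fun a => ?_) h
  exact (e.commutes a).trans (by
    rw [IsScalarTower.algebraMap_apply k p.asIdeal.ResidueField (p.asIdeal.Fiber F)]
    exact congrArg _ (σ.commutes a).symm)

theorem fitting_kaehler_formallyEtale (A B T : Type u) [CommRing A] [CommRing B] [CommRing T]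
    [Algebra A B] [Algebra A T] [Algebra B T] [IsScalarTower A B T] [Algebra.EssFiniteType A B]
    [Algebra.FormallyEtale B T] :
    Fitt.ideal T (KaehlerDifferential A T) 0 =
      (Fitt.ideal B (KaehlerDifferential A B) 0).map (algebraMap B T) := by
  rw [← FittingLib.ideal_baseChange (R := B) (M := KaehlerDifferential A B) T 0]
  exact (FittingLib.ideal_congr (KaehlerDifferential.tensorKaehlerEquivOfFormallyEtale A B T) 0).symm

theorem fitting_eq_noether_of_local {A B : Type u} [CommRing A] [CommRing B] [Algebra A B]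
    [Module.Finite A B]
    (h : ∀ (q : Ideal B) [q.IsPrime], ∃ g : B, g ∉ q ∧ ∃ (n : ℕ)
      (f : Fin n → MvPolynomial (Fin n) A), Nonempty (Localization.Away g ≃ₐ[A]
        (MvPolynomial (Fin n) A ⧸ Ideal.span (Set.range f)))) :
    Disc.noetherDifferent A B = Fitt.ideal B (KaehlerDifferential A B) 0 := by
  have hloc : ∀ (q : Ideal B) [q.IsPrime], ∃ g : B, g ∉ q ∧
      (Disc.noetherDifferent A B).map (algebraMap B (Localization.Away g)) =
        (Fitt.ideal B (KaehlerDifferential A B) 0).map (algebraMap B (Localization.Away g)) := by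
    intro q _
    obtain ⟨g, hg, n, f, ⟨ψ⟩⟩ := h q
    refine ⟨g, hg, ?_⟩
    let T := Localization.Away g
    let C := MvPolynomial (Fin n) A ⧸ Ideal.span (Set.range f)
    haveI : Algebra.FiniteType A T :=
      haveI : Algebra.FiniteType B T := IsLocalization.finiteType_of_monoid_fg (Submonoid.powers g) T
      Algebra.FiniteType.trans (R := A) (S := B) inferInstance inferInstance
    haveI : Algebra.QuasiFinite A T :=
      Algebra.QuasiFinite.of_isLocalization (S := B) (Submonoid.powers g)
    haveI : Algebra.QuasiFinite A C :=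
      Algebra.QuasiFinite.of_surjective_algHom ψ.toAlgHom ψ.surjective
    haveI : Algebra.FormallyEtale B T := Algebra.FormallyEtale.of_isLocalization (Submonoid.powers g)
    letI : Algebra C T := ψ.symm.toRingEquiv.toRingHom.toAlgebra
    haveI : IsScalarTower A C T :=
      IsScalarTower.of_algebraMap_eq' (R := A) (S := C) (A := T)
        (RingHom.ext fun a => (ψ.symm.commutes a).symm)
    haveI : Algebra.FormallyEtale C T :=
      Algebra.FormallyEtale.of_equiv (A := C) (AlgEquiv.ofRingEquiv (f := ψ.symm.toRingEquiv) fun _ => rfl)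
    have hB : IsOpenImmersion (Spec.map (CommRingCat.ofHom (algebraMap B T))) :=
      IsOpenImmersion.of_isLocalization g
    haveI : IsIso (CommRingCat.ofHom (algebraMap C T)) :=
      (ConcreteCategory.isIso_iff_bijective _).2 ψ.symm.bijective
    have hC : IsOpenImmersion (Spec.map (CommRingCat.ofHom (algebraMap C T))) := inferInstance
    rw [← fitting_kaehler_formallyEtale A B T, fitting_kaehler_formallyEtale A C T,
      ← noetherDifferent_openImmersion hB, noetherDifferent_openImmersion hC,
      fitting_kaehler f, noetherDifferent_gci f]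
  have key : ∀ I J : Ideal B, (∀ (q : Ideal B) [q.IsPrime], ∃ g : B, g ∉ q ∧
      I.map (algebraMap B (Localization.Away g)) ≤ J.map (algebraMap B (Localization.Away g))) →
      I ≤ J := by
    intro I J hIJ x hx
    by_contra hxJ
    have hne : J.colon {x} ≠ ⊤ := fun htop => hxJ (by
      have h1 : (1 : B) ∈ J.colon {x} := by rw [htop]; trivial
      simpa [Submodule.mem_colon_singleton] using h1)
    obtain ⟨q, hq, hle⟩ := Ideal.exists_le_maximal _ hne
    obtain ⟨g, hg, hmap⟩ := hIJ q
    obtain ⟨⟨⟨a, ha⟩, ⟨_, m, rfl⟩⟩, hxa⟩ :=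
      (IsLocalization.mem_map_algebraMap_iff (Submonoid.powers g) _).1 (hmap (Ideal.mem_map_of_mem _ hx))
    rw [← map_mul] at hxa
    obtain ⟨⟨_, k, rfl⟩, hk⟩ := (IsLocalization.eq_iff_exists (Submonoid.powers g) _).1 hxa
    refine hg (hq.isPrime.mem_of_pow_mem (k + m) (hle (Submodule.mem_colon_singleton.2 ?_)))
    rw [smul_eq_mul, pow_add, mul_assoc, mul_comm (g ^ m) x]
    simp only at hk
    rw [hk]
    exact J.mul_mem_left _ ha
  exact le_antisymm (key _ _ fun q _ => let ⟨g, hg, e⟩ := hloc q; ⟨g, hg, e.le⟩)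
    (key _ _ fun q _ => let ⟨g, hg, e⟩ := hloc q; ⟨g, hg, e.ge⟩)

theorem differentSet_eq_fitting (A B : Type u) [CommRing A] [CommRing B] [Algebra A B]
    [Module.Finite A B] [Module.Free A B] (h : Synt.IsSyntomic A B) :
    Disc.differentSet A B = (Fitt.ideal B (KaehlerDifferential A B) 0 : Set B) := by
  haveI : Module.Invertible B (Disc.Omega A B) :=
    gorenstein_fibres_iff.1 fun p _ => isGorensteinRing_of_isLCIOver (h.2.2 ⟨p, inferInstance⟩)
  haveI := h.1
  rw [differentSet_eq, fitting_eq_noether_of_local fun q _ =>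
    S2237.result (CI2.isLCI_of_isSyntomic h) q]

end Groth.Agent.DiscNoether25
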